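import Cfsg.Agent.Lib.Char.ThreeIndex.Tools
import Cfsg.Agent.Lib.Perm.Splitting
import Mathlib.GroupTheory.Transfer

/-!
# Families of centralizers: counting and transfer
-/

set_option autoImplicit false
set_option linter.style.haveILetI false
set_option linter.unusedSectionVars false

namespace Cfsg.Agent.Char.ThreeIndex

open Cfsg.Agent.Perm.CoprimeSizes Cfsg.Agent.Perm.CoprimeFour

universe u

variable {G : Type u} [Group G] [Finite G]

/-- The centre of a subgroup, as a subgroup of the whole group. -/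
def centPart (D : Subgroup G) : Subgroup G := D ⊓ Subgroup.centralizer (D : Set G)

/-- The union of the conjugates of a set. -/
def conjU (S : Set G) : Set G := {g | ∃ h : G, ∃ s ∈ S, g = h * s * h⁻¹}

theorem ncard_conjU_le (S : Set G) (N : Subgroup G) (hN : ∀ n ∈ N, ∀ s ∈ S, n * s * n⁻¹ ∈ S) :
    (conjU S).ncard ≤ N.index * S.ncard := by
  have hsub : conjU S ⊆ Set.range (fun p : (G ⧸ N) × S => p.1.out * (p.2 : G) * p.1.out⁻¹) := by
    rintro g ⟨h, s, hs, rfl⟩
    obtain ⟨n, hn⟩ := QuotientGroup.mk_out_eq_mul N h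
    refine ⟨(QuotientGroup.mk h, ⟨(n : G)⁻¹ * s * (n : G), by simpa using hN _ (inv_mem n.2) s hs⟩), ?_⟩
    show _ * ((n : G)⁻¹ * s * n) * _ = _
    rw [hn]; group
  refine (Set.ncard_le_ncard hsub (Set.toFinite _)).trans ?_
  rw [← Set.image_univ]
  refine (Set.ncard_image_le Set.finite_univ).trans ?_
  rw [Set.ncard_univ, Nat.card_prod, Nat.card_coe_set_eq, Subgroup.index]

theorem centPart_normalized (D : Subgroup G) :
    ∀ n ∈ Subgroup.normalizer (D : Set G), ∀ s ∈ {g : G | g ∈ centPart D ∧ g ≠ 1},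
      n * s * n⁻¹ ∈ {g : G | g ∈ centPart D ∧ g ≠ 1} := by
  rintro n hn s ⟨⟨hsD, hsC⟩, hs1⟩
  refine ⟨⟨(Subgroup.mem_normalizer_iff.1 hn s).1 hsD, Subgroup.mem_centralizer_iff.2 fun y hy => ?_⟩,
    by rwa [Ne, conj_eq_one_iff]⟩
  have hy' : n⁻¹ * y * n ∈ D := by
    simpa using (Subgroup.mem_normalizer_iff.1 (inv_mem hn) y).1 hy
  have e := Subgroup.mem_centralizer_iff.1 hsC _ hy'
  calc y * (n * s * n⁻¹) = n * ((n⁻¹ * y * n) * s) * n⁻¹ := by group
    _ = n * (s * (n⁻¹ * y * n)) * n⁻¹ := by rw [e]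
    _ = n * s * n⁻¹ * y := by group

/-- The conjugates of the centre of `D` fill at most half of the group,
unless `D` is abelian and self-normalizing. -/
theorem two_mul_conjU_le (D : Subgroup G)
    (h : ¬ (D ≤ Subgroup.centralizer (D : Set G) ∧ Subgroup.normalizer (D : Set G) ≤ D)) :
    2 * (conjU {g : G | g ∈ centPart D ∧ g ≠ 1}).ncard + D.index ≤ Nat.card G := by
  have hN := ncard_conjU_le _ _ (centPart_normalized D)
  set Z := centPart D with hZ
  set N := Subgroup.normalizer (D : Set G) with hNd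
  have hcard : {g : G | g ∈ Z ∧ g ≠ 1}.ncard + 1 = Nat.card Z := by
    rw [show {g : G | g ∈ Z ∧ g ≠ 1} = (Z : Set G) \ {1} from rfl,
      Set.ncard_diff_singleton_add_one Z.one_mem (Set.toFinite _)]
    exact Nat.card_coe_set_eq (Z : Set G)
  set s := {g : G | g ∈ Z ∧ g ≠ 1}.ncard with hs
  rw [← D.card_mul_index]
  have hDN : D ≤ N := Subgroup.le_normalizer
  have hrel := Subgroup.relIndex_mul_index hDN
  have hrel0 : D.relIndex N ≠ 0 := fun e => Subgroup.index_ne_zero_of_finite (H := D) (by rw [← hrel, e, zero_mul])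
  have hZD : Z ≤ D := inf_le_left
  have hle : Nat.card Z ≤ Nat.card D := Nat.le_of_dvd Nat.card_pos (Subgroup.card_dvd_of_le hZD)
  by_cases hab : D ≤ Subgroup.centralizer (D : Set G)
  · have h2 : 2 ≤ D.relIndex N := by
      have : D.relIndex N ≠ 1 := fun e => h ⟨hab, Subgroup.relIndex_eq_one.1 e⟩
      omega
    have h3 : 2 * N.index ≤ D.index := by rw [← hrel]; exact Nat.mul_le_mul_right _ h2
    calc 2 * (conjU _).ncard + D.index ≤ 2 * (N.index * s) + D.index := by omega
      _ = (2 * N.index) * s + D.index := by ring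
      _ ≤ D.index * s + D.index := Nat.add_le_add_right (Nat.mul_le_mul_right _ h3) _
      _ = (s + 1) * D.index := by ring
      _ ≤ Nat.card D * D.index := Nat.mul_le_mul_right _ (hcard ▸ hle)
  · have hne : Z < D := lt_of_le_of_ne hZD fun e => hab (by
      intro x hx
      exact (e.symm.le hx : x ∈ D ⊓ Subgroup.centralizer (D : Set G)).2)
    have h2 : 2 * Nat.card Z ≤ Nat.card D := by
      obtain ⟨k, hk⟩ := Subgroup.card_dvd_of_le hZD
      rcases k with _ | _ | k
      · rw [mul_zero] at hk; exact absurd hk Nat.card_pos.ne'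
      · exact absurd (Subgroup.eq_of_le_of_card_ge hZD (by rw [hk]; simp)) hne.ne
      · rw [hk, mul_comm 2]; exact Nat.mul_le_mul_left _ (by omega)
    have h3 : N.index ≤ D.index := Nat.le_of_dvd (Nat.pos_of_ne_zero Subgroup.index_ne_zero_of_finite)
      (Subgroup.index_dvd_of_le hDN)
    calc 2 * (conjU _).ncard + D.index ≤ 2 * (N.index * s) + D.index := by omega
      _ ≤ 2 * (D.index * s) + D.index := by
        have := Nat.mul_le_mul_right s h3
        omega
      _ = (2 * s + 1) * D.index := by ring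
      _ ≤ Nat.card D * D.index := Nat.mul_le_mul_right _ (by omega)

/-- Burnside transfer for a Sylow subgroup whose centralizer is abelian and self-normalizing. -/
theorem not_dvd_commutator {p : ℕ} [Fact p.Prime] (W : Sylow p G) {D : Subgroup G}
    (hWD : (W : Subgroup G) ≤ D) (hCW : Subgroup.centralizer ((W : Subgroup G) : Set G) ≤ D)
    (hab : D ≤ Subgroup.centralizer (D : Set G)) (hN : Subgroup.normalizer (D : Set G) ≤ D) :
    ¬ p ∣ Nat.card (commutator G) := by
  have hDC : D ≤ Subgroup.centralizer ((W : Subgroup G) : Set G) :=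
    hab.trans (Subgroup.centralizer_le hWD)
  have hCD : Subgroup.centralizer ((W : Subgroup G) : Set G) = D := le_antisymm hCW hDC
  have hle : Subgroup.normalizer ((W : Subgroup G) : Set G) ≤ Subgroup.centralizer ((W : Subgroup G) : Set G) := by
    intro n hn
    have key : ∀ m ∈ Subgroup.normalizer ((W : Subgroup G) : Set G), ∀ x ∈ D, m * x * m⁻¹ ∈ D := by
      intro m hm x hx
      rw [← hCD] at hx ⊢
      refine Subgroup.mem_centralizer_iff.2 fun w hw => ?_
      have hw' : m⁻¹ * w * m ∈ (W : Subgroup G) := by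
        simpa using (Subgroup.mem_normalizer_iff.1 (inv_mem hm) w).1 hw
      have e := Subgroup.mem_centralizer_iff.1 hx _ hw'
      calc w * (m * x * m⁻¹) = m * ((m⁻¹ * w * m) * x) * m⁻¹ := by group
        _ = m * (x * (m⁻¹ * w * m)) * m⁻¹ := by rw [e]
        _ = m * x * m⁻¹ * w := by group
    have hnD : n ∈ Subgroup.normalizer (D : Set G) := by
      refine Subgroup.mem_normalizer_iff.2 fun x => ⟨key n hn x, fun hx => ?_⟩
      have := key n⁻¹ (inv_mem hn) _ hx
      rwa [show n⁻¹ * (n * x * n⁻¹) * n⁻¹⁻¹ = x by group] at this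
    exact hDC (hN hnD)
  have hcompl := MonoidHom.ker_transferSylow_isComplement' W hle
  have hker : commutator G ≤ (MonoidHom.transferSylow W hle).ker := by
    rw [commutator_def, Subgroup.commutator_le]
    intro x _ y _
    rw [MonoidHom.mem_ker, map_commutatorElement, commutatorElement_eq_one_iff_mul_comm]
    exact Subtype.ext (Subgroup.mem_centralizer_iff.1
      (hab (hWD (MonoidHom.transferSylow W hle y).2)) _ (hWD (MonoidHom.transferSylow W hle x).2))
  intro hd
  have h1 := hd.trans (Subgroup.card_dvd_of_le hker)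
  exact W.not_dvd_index (h1.trans (dvd_of_eq hcompl.index_eq_card.symm))

/-- A normal subgroup admitting a fixed point free element of prime order is nilpotent. -/
theorem nilpotent_of_fpf (K : Subgroup G) [K.Normal] {y : G} {p : ℕ} (hp : p.Prime) (hy : orderOf y = p)
    (hfix : ∀ k ∈ K, k * y = y * k → k = 1) : Group.IsNilpotent K := by
  refine Perm.splitting_nilpotent K y hp (by rw [Subgroup.normalizer_eq_top]; exact Subgroup.mem_top _) fun k hk => ?_
  have hmem : ∀ x : K, (x : G) * y * (x : G)⁻¹ * y⁻¹ ∈ K := fun x => by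
    rw [show (x : G) * y * (x : G)⁻¹ * y⁻¹ = (x : G) * (y * (x : G)⁻¹ * y⁻¹) by group]
    exact mul_mem x.2 (Subgroup.Normal.conj_mem ‹_› _ (inv_mem x.2) y)
  have hinj : Function.Injective (fun x : K => (⟨_, hmem x⟩ : K)) := by
    intro x x' e
    have e' : (x : G) * y * (x : G)⁻¹ = (x' : G) * y * (x' : G)⁻¹ := mul_right_cancel (congrArg Subtype.val e)
    refine Subtype.ext (inv_mul_eq_one.1 (hfix _ (mul_mem (inv_mem x'.2) x.2) ?_)).symm
    calc (x' : G)⁻¹ * x * y = (x' : G)⁻¹ * ((x : G) * y * (x : G)⁻¹) * x := by group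
      _ = (x' : G)⁻¹ * ((x' : G) * y * (x' : G)⁻¹) * x := by rw [e']
      _ = y * ((x' : G)⁻¹ * x) := by group
  obtain ⟨x, hx⟩ := Finite.injective_iff_surjective.1 hinj ⟨k, hk⟩
  have e : k * y = (x : G) * y * (x : G)⁻¹ := by
    have hx' : (x : G) * y * (x : G)⁻¹ * y⁻¹ = k := congrArg Subtype.val hx
    rw [← hx']; group
  rw [e, conj_pow, ← hy, pow_orderOf_eq_one, mul_one, mul_inv_cancel]

variable {b : ℕ}

/-- The multiples of `b` among the indices equal `b`. -/
def BMax (G : Type u) [Group G] (b : ℕ) : Prop := ∀ g : G, g ≠ 1 → b ∣ cls g → cls g = b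

theorem central_in_cent (hB : BMax G b) {z v : G} (hz : cls z = b) (hz1 : z ≠ 1) (hc : v ∈ cent z)
    (ho : (orderOf z).Coprime (orderOf v)) : cent z ≤ cent v := by
  have hcm : z * v = v * z := (mem_cent.1 hc).symm
  have h1 : cent (z * v) ≤ cent z := by rw [cent_mul_of_coprime hcm ho]; exact inf_le_left
  have h2 : cls (z * v) = b := hB _ (Lie.RankThree.mul_ne_one_of_coprime hcm ho hz1) (hz ▸ cls_dvd h1)
  rw [cent_eq_of_le h1 (hz.trans h2.symm), cent_mul_of_coprime hcm ho]
  exact inf_le_right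

/-- Every element whose index avoids `w` lies in a conjugate of the centre of `C(z)`. -/
theorem mem_conjU (hB : BMax G b) {w : ℕ} [Fact w.Prime] (W : Sylow w G) {z : G} (hzW : z ∈ (W : Subgroup G))
    (hz1 : z ≠ 1) (hWz : (W : Subgroup G) ≤ cent z) (hz : cls z = b) {g : G} (hg1 : g ≠ 1)
    (hg : ¬ w ∣ cls g) : g ∈ conjU {x : G | x ∈ centPart (cent z) ∧ x ≠ 1} := by
  obtain ⟨Q, hQ⟩ := Perm.NilpotentHall.exists_sylow_le hg
  obtain ⟨k, hk⟩ := MulAction.exists_smul_eq G Q W
  set x := k * g * k⁻¹ with hx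
  have hxW : (W : Subgroup G) ≤ cent x := by
    intro y hy
    rw [← hk, Sylow.coe_subgroup_smul] at hy
    obtain ⟨y', hy', rfl⟩ := hy
    rw [hx, cent_conj]
    exact ⟨y', hQ hy', rfl⟩
  refine ⟨k⁻¹, x, ⟨?_, by rwa [hx, Ne, conj_eq_one_iff]⟩, by rw [hx]; group⟩
  have hxz : x ∈ cent z := mem_cent_comm.1 (hxW hzW)
  have hzp : Prim w z := prim_of_mem_sylow W hzW
  refine Subgroup.mem_inf.2 ⟨hxz, ?_⟩
  suffices hle : cent z ≤ cent x from Subgroup.mem_centralizer_iff.2 fun y hy => mem_cent.1 (hle hy)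
  obtain ⟨u, v, hu, hv, huv, hup, hvo⟩ := Solv.exists_ppart w x
  have hvz : cent z ≤ cent v := central_in_cent hB hz hz1 (mem_of_zpowers_mem hxz hv) (coprime_prim hvo hzp).symm
  have huz : cent z ≤ cent u := by
    rw [← Subgroup.subgroupOf_eq_top]
    refine Solv.eq_top_of_forall_sylow_le _ fun r hr => ?_
    by_cases hrw : r = w
    · subst hrw
      refine ⟨W.subtype hWz, fun y hy => Subgroup.mem_subgroupOf.2 (cent_le_of_mem_zpowers hu (hxW ?_))⟩
      exact Subgroup.mem_subgroupOf.1 hy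
    · obtain ⟨R⟩ : Nonempty (Sylow r (cent z)) := inferInstance
      refine ⟨R, fun y hy => Subgroup.mem_subgroupOf.2 ?_⟩
      have hyc : cent z ≤ cent (y : G) := central_in_cent hB hz hz1 y.2
        (coprime_prim (Prim.coprime_prime hr.out Fact.out hrw (prim_of_mem_sylow R hy).coe) hzp).symm
      exact mem_cent_comm.1 (hyc (mem_of_zpowers_mem hxz hu))
  intro y hy
  refine mem_cent.2 ?_
  rw [← huv]
  exact ((show Commute y u from mem_cent.1 (huz hy)).mul_right (mem_cent.1 (hvz hy))).eq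

end Cfsg.Agent.Char.ThreeIndex
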