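import Cfsg.Agent.Lib.Char.ThreeIndex.Nil
import Cfsg.Agent.Lib.Char.ThreeIndex.Count

/-!
# Three indices `a ∣ b`, `c ∤ b`: the group is solvable
-/

set_option autoImplicit false
set_option linter.style.haveILetI false
set_option linter.unusedSectionVars false

namespace Cfsg.Agent.Char.ThreeIndex

open Cfsg.Agent.Perm.CoprimeSizes Cfsg.Agent.Perm.CoprimeFour

universe u

variable {G : Type u} [Group G] [Finite G]

/-- Two primes forcing index `a` on their central elements give a nilpotent centralizer. -/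
theorem nilpotent_pair {a b : ℕ} (hM : AMult G a b) (hab : a < b) (hdvd : a ∣ b) {z : G} {w w' : ℕ}
    (hw : w.Prime) (hw' : w'.Prime) (hne : w ≠ w') (hzp : Prim w z) (hz1 : z ≠ 1) (hza : cls z = a)
    (hw'G : w' ∣ Nat.card G) (hw'a : ¬ w' ∣ a) (hs : ∀ g : G, g ≠ 1 → ¬ w' ∣ cls g → cls g = a) :
    Group.IsNilpotent (cent z) := by
  haveI := Fact.mk hw'
  obtain ⟨P, hP⟩ := Perm.NilpotentHall.exists_sylow_le (H := cent z) (p := w')
    (by show ¬ w' ∣ cls z; rwa [hza])
  obtain ⟨z', hz'P, hz'1, hz'p, hPz', hz'f⟩ := exists_central hw'G P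
  have hz'a := hs z' hz'1 hz'f
  have hcm : z * z' = z' * z := (mem_cent.1 (hP hz'P)).symm
  have hco := Prim.coprime hw hw' hne hzp hz'p
  have hmul : cls (z * z') = a := by
    refine hs _ (Lie.RankThree.mul_ne_one_of_coprime hcm hco hz1) ?_
    show ¬ w' ∣ (cent (z * z')).index
    rw [cent_mul_of_coprime hcm hco]
    exact fun h => P.not_dvd_index (h.trans (Subgroup.index_dvd_of_le (le_inf hP hPz')))
  have e : (cent z ⊓ cent z').index = a := by rw [← cent_mul_of_coprime hcm hco]; exact hmul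
  have h1 : cent z ≤ cent z' := le_cent_of_index hza e
  exact nilpotent_two hM hab hdvd hw hw' hne hzp hz'p hz1 hz'1 hza (cent_eq_of_le h1 (hz'a.trans hza.symm))

/-- Three indices `a ∣ b` and `c` not dividing `b`. -/
structure One (G : Type u) [Group G] (a b c : ℕ) : Prop where
  val : ∀ x : G, x ≠ 1 → cls x = a ∨ cls x = b ∨ cls x = c
  exC : ∃ x : G, x ≠ 1 ∧ cls x = c
  dvd : a ∣ b
  lt : a < b
  cop : a.Coprime c
  nd : ¬ c ∣ b
  a1 : 1 < a
  c1 : 1 < c

variable {a b c : ℕ}

theorem One.not_a_dvd_c (h : One G a b c) : ¬ a ∣ c := fun hd =>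
  h.a1.ne' (Nat.eq_one_of_dvd_coprimes h.cop dvd_rfl hd)

theorem One.amult (h : One G a b c) : AMult G a b := fun g hg hd => by
  rcases h.val g hg with e | e | e
  · exact Or.inl e
  · exact Or.inr e
  · exact absurd (e ▸ hd) h.not_a_dvd_c

theorem One.bmax (h : One G a b c) : BMax G b := fun g hg hd => by
  rcases h.val g hg with e | e | e
  · exfalso
    have := Nat.le_of_dvd (lt_trans zero_lt_one h.a1) (e ▸ hd)
    have := h.lt
    omega
  · exact e
  · exact absurd (h.dvd.trans (e ▸ hd)) h.not_a_dvd_c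

theorem One.cmult (h : One G a b c) {g : G} (hg : g ≠ 1) (hd : c ∣ cls g) : cls g = c := by
  rcases h.val g hg with e | e | e
  · exact absurd (Nat.eq_one_of_dvd_coprimes h.cop (e ▸ hd) dvd_rfl) h.c1.ne'
  · exact absurd (e ▸ hd) h.nd
  · exact e

theorem One.cdiv (h : One G a b c) {g : G} (hg : g ≠ 1) (hd : cls g ∣ c) : cls g = c := by
  rcases h.val g hg with e | e | e
  · exact absurd (e ▸ hd) h.not_a_dvd_c
  · exact absurd (h.dvd.trans (e ▸ hd)) h.not_a_dvd_c
  · exact e

theorem One.cent_eq (h : One G a b c) {y t : G} (hy1 : y ≠ 1) (hy : cls y = c) (ht : t ∈ cent y) (ht1 : t ≠ 1)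
    (ho : (orderOf y).Coprime (orderOf t)) : cent t = cent y ∧ cls t = c := by
  have hcm : y * t = t * y := (mem_cent.1 ht).symm
  have hl : cent (y * t) ≤ cent y := by rw [cent_mul_of_coprime hcm ho]; exact inf_le_left
  have hm : cls (y * t) = c :=
    h.cmult (Lie.RankThree.mul_ne_one_of_coprime hcm ho hy1) (hy ▸ cls_dvd hl)
  have hle : cent y ≤ cent t := by
    rw [cent_eq_of_le hl (hy.trans hm.symm), cent_mul_of_coprime hcm ho]; exact inf_le_right
  have htc : cls t = c := h.cdiv ht1 (hy ▸ cls_dvd hle)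
  exact ⟨cent_eq_of_le hle (htc.trans hy.symm), htc⟩

theorem One.not_dvd_c (h : One G a b c) {y : G} {p : ℕ} (hp : p.Prime) (hyo : orderOf y = p)
    (hy : cls y = c) {q : ℕ} (hq : q.Prime) (hqX : q ∣ Nat.card (cent y)) : ¬ q ∣ c := by
  intro hqc
  haveI := Fact.mk hq
  have hy1 : y ≠ 1 := fun e => by rw [e, orderOf_one] at hyo; exact hp.ne_one hyo.symm
  have hqG : q ∣ Nat.card G := hqX.trans (Subgroup.card_subgroup_dvd_card _)
  -- an element `v` of index `c` and order prime to `q`, commuting with a `q`-element `s ≠ 1`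
  obtain ⟨v, hvc, hv1, hvq, s, hs1, hsq, hsv⟩ : ∃ v : G, cls v = c ∧ v ≠ 1 ∧ (orderOf v).Coprime q ∧
      ∃ s : G, s ≠ 1 ∧ Prim q s ∧ s ∈ cent v := by
    by_cases hqp : q = p
    · subst hqp
      obtain ⟨d, hd, hda⟩ := Nat.exists_prime_and_dvd h.a1.ne'
      haveI := Fact.mk hd
      -- some element has index divisible by `a`, so `a` divides the order
      obtain ⟨P⟩ : Nonempty (Sylow q G) := inferInstance
      obtain ⟨z, -, hz1, -, -, hz⟩ := exists_central hqG P
      have haG : a ∣ Nat.card G := by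
        rcases h.val z hz1 with e | e | e
        · exact e ▸ Subgroup.index_dvd_card _
        · exact h.dvd.trans (e ▸ Subgroup.index_dvd_card _)
        · exact absurd (e ▸ hqc) hz
      have hdX : d ∣ Nat.card (cent y) := by
        have h1 : d ∣ Nat.card (cent y) * cls y := by
          rw [Subgroup.card_mul_index]; exact hda.trans haG
        exact (hd.dvd_mul.1 h1).resolve_right fun h2 =>
          hd.ne_one (Nat.eq_one_of_dvd_coprimes h.cop hda (hy ▸ h2))
      have hdq : d ≠ q := fun e => hd.ne_one (Nat.eq_one_of_dvd_coprimes h.cop hda (e ▸ hqc))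
      obtain ⟨⟨v, hvX⟩, hvo⟩ := exists_prime_orderOf_dvd_card' d hdX
      rw [Subgroup.orderOf_mk] at hvo
      have hv1 : v ≠ 1 := fun e => by rw [e, orderOf_one] at hvo; exact hd.ne_one hvo.symm
      exact ⟨v, (h.cent_eq hy1 hy hvX hv1 ((Prim.of_prime hyo).coprime hq hd hdq.symm (Prim.of_prime hvo))).2,
        hv1, by rw [hvo]; exact (Nat.coprime_primes hd hq).2 hdq, y, hy1, Prim.of_prime hyo, mem_cent_comm.1 hvX⟩
    · obtain ⟨⟨t, htX⟩, hto⟩ := exists_prime_orderOf_dvd_card' q hqX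
      rw [Subgroup.orderOf_mk] at hto
      exact ⟨y, hy, hy1, by rw [hyo]; exact (Nat.coprime_primes hp hq).2 (Ne.symm hqp), t,
        fun e => (by rw [e, orderOf_one] at hto; exact hq.ne_one hto.symm), Prim.of_prime hto, htX⟩
  obtain ⟨P, hsP⟩ := exists_sylow_of_prim hsq
  obtain ⟨es, -⟩ := h.cent_eq hv1 hvc hsv hs1 (coprime_prim hvq hsq)
  obtain ⟨z, hzP, hz1, hzp, hPz, hzf⟩ := exists_central hqG P
  have hzc : z ∈ cent v := es ▸ (mem_cent_comm.1 (hPz hsP))
  exact hzf ((h.cent_eq hv1 hvc hzc hz1 (coprime_prim hvq hzp)).2 ▸ hqc)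

/-- The centralizer of an element of index `c`. -/
theorem One.centC_cases (h : One G a b c) {y : G} {p : ℕ} (hp : p.Prime) (hyo : orderOf y = p)
    (hy : cls y = c) :
    (∀ (r : ℕ) (t : G), r.Prime → Prim r t → t ∈ cent y → t ≠ 1 → cent t = cent y) ∨
      IsPGroup p (cent y) := by
  by_cases hpg : IsPGroup p (cent y)
  · exact Or.inr hpg
  left
  obtain ⟨q, hq, hqd, hqp⟩ : ∃ q : ℕ, q.Prime ∧ q ∣ Nat.card (cent y) ∧ q ≠ p := by
    by_contra hno
    push Not at hno
    haveI := Fact.mk hp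
    exact hpg (IsPGroup.of_card (n := (Nat.card (cent y)).primeFactorsList.length)
      (Nat.eq_prime_pow_of_unique_prime_dvd Nat.card_pos.ne' fun {d} hd hdd => hno d hd hdd))
  haveI := Fact.mk hq
  obtain ⟨⟨v, hvX⟩, hvo⟩ := exists_prime_orderOf_dvd_card' q hqd
  rw [Subgroup.orderOf_mk] at hvo
  have hy1 : y ≠ 1 := fun e => by rw [e, orderOf_one] at hyo; exact hp.ne_one hyo.symm
  have hv1 : v ≠ 1 := fun e => by rw [e, orderOf_one] at hvo; exact hq.ne_one hvo.symm
  obtain ⟨ev, hvc⟩ := h.cent_eq hy1 hy hvX hv1 (by rw [hyo, hvo]; exact (Nat.coprime_primes hp hq).2 hqp.symm)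
  intro r t hr ht htX ht1
  by_cases hrp : r = p
  · subst hrp
    rw [← ev] at htX ⊢
    exact (h.cent_eq hv1 hvc htX ht1 ((Prim.of_prime hvo).coprime hq hr hqp ht)).1
  · exact (h.cent_eq hy1 hy htX ht1 ((Prim.of_prime hyo).coprime hp hr (Ne.symm hrp) ht)).1

theorem One.nilpotentC (h : One G a b c) {y : G} {p : ℕ} (hp : p.Prime) (hyo : orderOf y = p)
    (hy : cls y = c) : Group.IsNilpotent (cent y) := by
  haveI := Fact.mk hp
  rcases h.centC_cases hp hyo hy with hall | hpg
  · refine nilpotent_of_two_sizes 1 fun x => Or.inl (cls_eq_one_iff.2 ?_)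
    have htop : Subgroup.center (cent y) = ⊤ := by
      refine Solv.eq_top_of_forall_sylow_le _ fun r hr => ?_
      obtain ⟨P⟩ : Nonempty (Sylow r (cent y)) := inferInstance
      refine ⟨P, fun t ht => Subgroup.mem_center_iff.2 fun g => Subtype.ext ?_⟩
      by_cases ht1 : (t : G) = 1
      · show (g : G) * (t : G) = (t : G) * g
        rw [ht1, mul_one, one_mul]
      · exact mem_cent.1 ((hall r t hr.out (prim_of_mem_sylow P ht).coe t.2 ht1).ge g.2)
    rw [htop]; exact Subgroup.mem_top _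
  · exact hpg.isNilpotent

theorem One.conj_centC (h : One G a b c) {y y' : G} {p q : ℕ} (hp : p.Prime) (hyo : orderOf y = p)
    (hy : cls y = c) (hq : q.Prime) (hy'o : orderOf y' = q) (hy' : cls y' = c) :
    ∃ k : G, cent (k * y' * k⁻¹) = cent y := by
  haveI := Fact.mk hp
  haveI := Fact.mk hq
  have hy'1 : y' ≠ 1 := fun e => by rw [e, orderOf_one] at hy'o; exact hq.ne_one hy'o.symm
  have hqc : ¬ q ∣ c := h.not_dvd_c hq hy'o hy' hq (by
    rw [← hy'o, ← Subgroup.orderOf_mk y' (self_mem_cent y')]; exact orderOf_dvd_natCard _)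
  obtain ⟨Q, hQ⟩ := Perm.NilpotentHall.exists_sylow_le (H := cent y) (p := q) (by show ¬ q ∣ cls y; rwa [hy])
  obtain ⟨Q', hQ'⟩ := exists_sylow_of_prim (Prim.of_prime hy'o)
  obtain ⟨k, hk⟩ := MulAction.exists_smul_eq G Q' Q
  have hmem : k * y' * k⁻¹ ∈ cent y := hQ (by
    rw [← hk, Sylow.coe_subgroup_smul]
    exact Subgroup.smul_mem_pointwise_smul y' (MulAut.conj k) _ hQ')
  rcases h.centC_cases hp hyo hy with hall | hpg
  · exact ⟨k, hall q _ hq (Prim.of_prime ((MulEquiv.orderOf_eq (MulAut.conj k) y').trans hy'o)) hmem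
      (by rwa [Ne, conj_eq_one_iff])⟩
  · have hcard : Nat.card (cent y') = Nat.card (cent y) :=
      Nat.eq_of_mul_eq_mul_right (cls_pos y) (by
        conv_lhs => rw [show cls y = cls y' from hy.trans hy'.symm]
        rw [Subgroup.card_mul_index, Subgroup.card_mul_index])
    obtain ⟨n, hn⟩ := IsPGroup.iff_card.1 hpg
    have hp' : IsPGroup p (cent y') := IsPGroup.of_card (n := n) (hcard.trans hn)
    have hpc : ¬ p ∣ c := h.not_dvd_c hp hyo hy hp (by
      rw [← hyo, ← Subgroup.orderOf_mk y (self_mem_cent y)]; exact orderOf_dvd_natCard _)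
    set T : Sylow p G := hpg.toSylow (by show ¬ p ∣ cls y; rwa [hy]) with hT
    set T' : Sylow p G := hp'.toSylow (by show ¬ p ∣ cls y'; rwa [hy']) with hT'
    obtain ⟨k, hk⟩ := MulAction.exists_smul_eq G T' T
    refine ⟨k, ?_⟩
    rw [cent_conj]
    have e : ((k • T' : Sylow p G) : Subgroup G) = (T : Subgroup G) := by rw [hk]
    rw [Sylow.coe_subgroup_smul] at e
    exact e

theorem One.mem_conjU_C (h : One G a b c) {y : G} {p : ℕ} (hp : p.Prime) (hyo : orderOf y = p)
    (hy : cls y = c) {g : G} (hg1 : g ≠ 1) (hg : cls g = c) :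
    g ∈ conjU {x : G | x ∈ centPart (cent y) ∧ x ≠ 1} := by
  obtain ⟨q, y', hq, hy'o, hy'1, hy'g⟩ := exists_prim_power hg1
  have hy'c : cls y' = c := h.cdiv hy'1 (hg ▸ cls_dvd_of_mem hy'g)
  have e : cent y' = cent g := cent_eq_of_le (cent_le_of_mem_zpowers hy'g) (hy'c.trans hg.symm)
  obtain ⟨k, hk⟩ := h.conj_centC hp hyo hy hq hy'o hy'c
  have e' : cent (k * g * k⁻¹) = cent y := by rw [cent_conj, ← e, ← cent_conj, hk]
  refine ⟨k⁻¹, k * g * k⁻¹, ⟨Subgroup.mem_inf.2 ⟨e' ▸ self_mem_cent _, ?_⟩, by rwa [Ne, conj_eq_one_iff]⟩, by group⟩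
  exact Subgroup.mem_centralizer_iff.2 fun x hx => mem_cent.1 (e'.symm ▸ hx : x ∈ cent (k * g * k⁻¹))

theorem One.solvable_of_X (h : One G a b c) {y : G} {p : ℕ} (hp : p.Prime) (hyo : orderOf y = p)
    (hy : cls y = c) (hab : cent y ≤ Subgroup.centralizer (cent y : Set G))
    (hN : Subgroup.normalizer (cent y : Set G) ≤ cent y) : Group.IsSolvable G := by
  haveI := Fact.mk hp
  have hcop : (Nat.card (cent y)).Coprime (Nat.card (commutator G)) := by
    refine Nat.coprime_of_dvd fun q hq hqX hqK => ?_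
    haveI := Fact.mk hq
    obtain ⟨P, hP⟩ := Perm.NilpotentHall.exists_sylow_le (H := cent y) (p := q)
      (by show ¬ q ∣ cls y; rw [hy]; exact h.not_dvd_c hp hyo hy hq hqX)
    refine not_dvd_commutator P hP ?_ hab hN hqK
    obtain ⟨z, hzP, hz1, hzp, -, -⟩ := exists_central (hqX.trans (Subgroup.card_subgroup_dvd_card _)) P
    rcases h.centC_cases hp hyo hy with hall | hpg
    · intro g hg
      rw [← hall q z hq hzp (hP hzP) hz1]
      exact mem_cent.2 (Subgroup.mem_centralizer_iff.1 hg z hzP).symm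
    · have hqp : q = p := by
        obtain ⟨n, hn⟩ := IsPGroup.iff_card.1 hpg
        exact (Nat.prime_dvd_prime_iff_eq hq hp).1 (hq.dvd_of_dvd_pow (hn ▸ hqX))
      subst hqp
      have e : cent y = (P : Subgroup G) := P.3 hpg hP
      intro g hg
      exact mem_cent.2 (Subgroup.mem_centralizer_iff.1 hg y (e.le (self_mem_cent y))).symm
  haveI : (commutator G).Normal := inferInstance
  have hK : Group.IsNilpotent (commutator G) := by
    refine nilpotent_of_fpf _ hp hyo fun k hk hky => orderOf_eq_one_iff.1 ?_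
    refine Nat.eq_one_of_dvd_coprimes hcop ?_ ?_
    · rw [← Subgroup.orderOf_mk k (mem_cent.2 hky : k ∈ cent y)]; exact orderOf_dvd_natCard _
    · rw [← Subgroup.orderOf_mk k hk]; exact orderOf_dvd_natCard _
  haveI := hK
  exact solvable_of_commutator inferInstance

/-- The conclusion in the first case. -/
theorem One.solvable (h : One G a b c) : Group.IsSolvable G := by
  classical
  by_contra hns
  obtain ⟨y₀, hy₀1, hy₀⟩ := h.exC
  obtain ⟨p, y, hp, hyo, hy1, hyg⟩ := exists_prim_power hy₀1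
  have hy : cls y = c := h.cdiv hy1 (hy₀ ▸ cls_dvd_of_mem hyg)
  haveI := Fact.mk hp
  have hXnil := h.nilpotentC hp hyo hy
  have hcG : c ∣ Nat.card G := hy ▸ Subgroup.index_dvd_card _
  have hac : ∀ w : ℕ, w.Prime → w ∣ c → ¬ w ∣ a := fun w hw hwc hwa =>
    hw.ne_one (Nat.eq_one_of_dvd_coprimes h.cop hwa hwc)
  have hLX : ∀ z : G, cls z = a → ¬ Group.IsNilpotent (cent z) := fun z hz hn =>
    hns (solvable_of_two (cent z) (cent y) hn hXnil (by show (cls z).Coprime (cls y); rw [hz, hy]; exact h.cop))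
  -- at most one prime divides `b` and `c`
  have huniq : ∀ w w' : ℕ, w.Prime → w'.Prime → w ∣ c → w' ∣ c → w ∣ b → w' ∣ b → w = w' := by
    intro w w' hw hw' hwc hw'c hwb hw'b
    by_contra hne
    haveI := Fact.mk hw
    obtain ⟨W⟩ : Nonempty (Sylow w G) := inferInstance
    obtain ⟨z, -, hz1, hzp, -, hzf⟩ := exists_central (hwc.trans hcG) W
    have hs : ∀ v : ℕ, v.Prime → v ∣ c → v ∣ b → ∀ g : G, g ≠ 1 → ¬ v ∣ cls g → cls g = a := by
      intro v _ hvc hvb g hg hf
      rcases h.val g hg with e | e | e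
      · exact e
      · exact absurd (e ▸ hvb) hf
      · exact absurd (e ▸ hvc) hf
    have hza := hs w hw hwc hwb z hz1 hzf
    exact hLX z hza (nilpotent_pair h.amult h.lt h.dvd hw hw' hne hzp hz1 hza (hw'c.trans hcG)
      (hac w' hw' hw'c) (hs w' hw' hw'c hw'b))
  -- the other primes of `c` do not divide the derived subgroup
  have hgood : ∀ w : ℕ, w.Prime → w ∣ c → ¬ w ∣ b → ¬ w ∣ Nat.card (commutator G) := by
    intro w hw hwc hwb
    haveI := Fact.mk hw
    obtain ⟨W⟩ : Nonempty (Sylow w G) := inferInstance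
    obtain ⟨z, hzW, hz1, hzp, hWz, hzf⟩ := exists_central (hwc.trans hcG) W
    rcases h.val z hz1 with hza | hzb | hzc
    · exact absurd (nilpotent_of_not_dvd h.amult hzp hz1 hza (hac w hw hwc) hwb) (hLX z hza)
    · by_cases hD : cent z ≤ Subgroup.centralizer (cent z : Set G) ∧ Subgroup.normalizer (cent z : Set G) ≤ cent z
      · refine not_dvd_commutator W hWz ?_ hD.1 hD.2
        exact fun g hg => mem_cent.2 (Subgroup.mem_centralizer_iff.1 hg z hzW).symm
      exfalso
      by_cases hX : cent y ≤ Subgroup.centralizer (cent y : Set G) ∧ Subgroup.normalizer (cent y : Set G) ≤ cent y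
      · exact hns (h.solvable_of_X hp hyo hy hX.1 hX.2)
      have h1 := two_mul_conjU_le (cent z) hD
      have h2 := two_mul_conjU_le (cent y) hX
      rw [show (cent z).index = b from hzb] at h1
      rw [show (cent y).index = c from hy] at h2
      have hcov : ({1}ᶜ : Set G) ⊆ conjU {x : G | x ∈ centPart (cent z) ∧ x ≠ 1} ∪
          conjU {x : G | x ∈ centPart (cent y) ∧ x ≠ 1} := by
        intro g hg
        have hg1 : g ≠ 1 := hg
        rcases h.val g hg1 with e | e | e
        · exact Or.inl (mem_conjU h.bmax W hzW hz1 hWz hzb hg1 (e ▸ hac w hw hwc))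
        · exact Or.inl (mem_conjU h.bmax W hzW hz1 hWz hzb hg1 (e ▸ hwb))
        · exact Or.inr (h.mem_conjU_C hp hyo hy hg1 e)
      have h3 := (Set.ncard_le_ncard hcov (Set.toFinite _)).trans (Set.ncard_union_le _ _)
      rw [Set.ncard_compl, Set.ncard_singleton] at h3
      have := h.c1
      have := h.a1
      have := h.lt
      omega
    · exact absurd (hzc ▸ hwc) hzf
  -- the derived subgroup is a product of two nilpotent groups
  obtain ⟨r, hr, hrmax⟩ : ∃ r : ℕ, r.Prime ∧ ∀ w : ℕ, w.Prime → w ∣ c → w ∣ b → w = r := by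
    by_cases hex : ∃ r : ℕ, r.Prime ∧ r ∣ c ∧ r ∣ b
    · obtain ⟨r, hr, hrc, hrb⟩ := hex
      exact ⟨r, hr, fun w hw hwc hwb => huniq w r hw hr hwc hrc hwb hrb⟩
    · exact ⟨2, Nat.prime_two, fun w hw hwc hwb => absurd ⟨w, hw, hwc, hwb⟩ hex⟩
  haveI := Fact.mk hr
  obtain ⟨R⟩ : Nonempty (Sylow r G) := inferInstance
  refine hns (solvable_of_commutator (solvable_of_pair _ (cent y) R hXnil R.isPGroup'.isNilpotent ?_))
  refine Nat.coprime_of_dvd fun d hd hdX hdR => ?_
  have hdc : d ∣ c := hy ▸ hdX.trans (Solv.relIndex_dvd_index_normal (cent y) (commutator G))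
  have hdK : d ∣ Nat.card (commutator G) := hdX.trans (Subgroup.relIndex_dvd_card _ _)
  by_cases hdb : d ∣ b
  · obtain rfl := hrmax d hd hdc hdb
    exact R.not_dvd_index (hdR.trans (Solv.relIndex_dvd_index_normal (R : Subgroup G) (commutator G)))
  · exact hgood d hd hdc hdb hdK

end Cfsg.Agent.Char.ThreeIndex
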