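import Cfsg.Agent.Lib.Char.ThreeIndex.CaseOne

/-!
# Three indices `a ∣ b` and `c ∣ b`: the group is solvable
-/

set_option autoImplicit false
set_option linter.style.haveILetI false
set_option linter.unusedSectionVars false

namespace Cfsg.Agent.Char.ThreeIndex

open Cfsg.Agent.Perm.CoprimeSizes Cfsg.Agent.Perm.CoprimeFour

universe u

variable {G : Type u} [Group G] [Finite G]

/-- Two coprime indices `a`, `c` dividing the third, `b`. -/
structure Two (G : Type u) [Group G] (a b c : ℕ) : Prop where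
  val : ∀ x : G, x ≠ 1 → cls x = a ∨ cls x = b ∨ cls x = c
  exA : ∃ x : G, x ≠ 1 ∧ cls x = a
  exC : ∃ x : G, x ≠ 1 ∧ cls x = c
  dvdA : a ∣ b
  dvdC : c ∣ b
  ltA : a < b
  ltC : c < b
  cop : a.Coprime c
  a1 : 1 < a
  c1 : 1 < c

variable {a b c : ℕ}

theorem Two.symm (h : Two G a b c) : Two G c b a :=
  ⟨fun x hx => by rcases h.val x hx with e | e | e <;> simp [e], h.exC, h.exA, h.dvdC, h.dvdA, h.ltC, h.ltA,
    h.cop.symm, h.c1, h.a1⟩

theorem Two.amult (h : Two G a b c) : AMult G a b := fun g hg hd => by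
  rcases h.val g hg with e | e | e
  · exact Or.inl e
  · exact Or.inr e
  · exact absurd (Nat.eq_one_of_dvd_coprimes h.cop dvd_rfl (e ▸ hd)) h.a1.ne'

theorem Two.bmax (h : Two G a b c) : BMax G b := fun g hg hd => by
  rcases h.val g hg with e | e | e
  · have := Nat.le_of_dvd (lt_trans zero_lt_one h.a1) (e ▸ hd)
    have := h.ltA
    omega
  · exact e
  · have := Nat.le_of_dvd (lt_trans zero_lt_one h.c1) (e ▸ hd)
    have := h.ltC
    omega

theorem Two.sizeA (h : Two G a b c) {w : ℕ} (hwc : w ∣ c) {g : G} (hg : g ≠ 1) (hf : ¬ w ∣ cls g) :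
    cls g = a := by
  rcases h.val g hg with e | e | e
  · exact e
  · exact absurd (e ▸ hwc.trans h.dvdC) hf
  · exact absurd (e ▸ hwc) hf

theorem Two.c_dvd_card (h : Two G a b c) : c ∣ Nat.card G := by
  obtain ⟨x, -, hx⟩ := h.exC
  exact hx ▸ Subgroup.index_dvd_card _

/-- Two primes in `c` give a nilpotent subgroup of index `a`. -/
theorem Two.nilA (h : Two G a b c) {w w' : ℕ} (hw : w.Prime) (hw' : w'.Prime) (hne : w ≠ w')
    (hwc : w ∣ c) (hw'c : w' ∣ c) : ∃ L : Subgroup G, Group.IsNilpotent L ∧ L.index = a := by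
  haveI := Fact.mk hw
  obtain ⟨W⟩ : Nonempty (Sylow w G) := inferInstance
  obtain ⟨z, -, hz1, hzp, -, hzf⟩ := exists_central (hwc.trans h.c_dvd_card) W
  have hza := h.sizeA hwc hz1 hzf
  exact ⟨cent z, nilpotent_pair h.amult h.ltA h.dvdA hw hw' hne hzp hz1 hza (hw'c.trans h.c_dvd_card)
    (fun hd => hw'.ne_one (Nat.eq_one_of_dvd_coprimes h.cop hd hw'c))
    (fun g hg hf => h.sizeA hw'c hg hf), hza⟩

/-- A nilpotent subgroup of index a power of `p` gives solvability. -/
theorem solvable_of_nil_primePow {L : Subgroup G} (hL : Group.IsNilpotent L) {p : ℕ} (hp : p.Prime)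
    (h : ∀ w : ℕ, w.Prime → w ∣ L.index → w = p) : Group.IsSolvable G := by
  haveI := Fact.mk hp
  obtain ⟨P⟩ : Nonempty (Sylow p G) := inferInstance
  refine solvable_of_two L P hL P.isPGroup'.isNilpotent (Nat.coprime_of_dvd fun w hw hwL hwP => ?_)
  obtain rfl := h w hw hwL
  exact P.not_dvd_index hwP

/-- The conclusion in the second case. -/
theorem Two.solvable (h : Two G a b c) : Group.IsSolvable G := by
  classical
  by_contra hns
  obtain ⟨p, hp, hpa⟩ := Nat.exists_prime_and_dvd h.a1.ne'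
  obtain ⟨s, hs, hsc⟩ := Nat.exists_prime_and_dvd h.c1.ne'
  by_cases hA : ∃ w : ℕ, w.Prime ∧ w ∣ a ∧ w ≠ p
  · obtain ⟨w, hw, hwa, hwp⟩ := hA
    obtain ⟨M, hM, hMi⟩ := h.symm.nilA hw hp hwp hwa hpa
    by_cases hC : ∃ v : ℕ, v.Prime ∧ v ∣ c ∧ v ≠ s
    · obtain ⟨v, hv, hvc, hvs⟩ := hC
      obtain ⟨L, hL, hLi⟩ := h.nilA hv hs hvs hvc hsc
      exact hns (solvable_of_two L M hL hM (by rw [hLi, hMi]; exact h.cop))
    · push Not at hC
      exact hns (solvable_of_nil_primePow hM hs fun v hv hvd => hC v hv (hMi ▸ hvd))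
  push Not at hA
  by_cases hC : ∃ v : ℕ, v.Prime ∧ v ∣ c ∧ v ≠ s
  · obtain ⟨v, hv, hvc, hvs⟩ := hC
    obtain ⟨L, hL, hLi⟩ := h.nilA hv hs hvs hvc hsc
    exact hns (solvable_of_nil_primePow hL hp fun w hw hwd => hA w hw (hLi ▸ hwd))
  push Not at hC
  -- the primes other than `p` and `s` do not divide the derived subgroup
  have hgood : ∀ w : ℕ, w.Prime → w ≠ p → w ≠ s → ¬ w ∣ Nat.card (commutator G) := by
    intro w hw hwp hws hwK
    haveI := Fact.mk hw
    have hwG : w ∣ Nat.card G := hwK.trans (Subgroup.card_subgroup_dvd_card _)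
    have hwa : ¬ w ∣ a := fun hd => hwp (hA w hw hd)
    have hwc : ¬ w ∣ c := fun hd => hws (hC w hw hd)
    obtain ⟨W⟩ : Nonempty (Sylow w G) := inferInstance
    obtain ⟨z, hzW, hz1, hzp, hWz, hzf⟩ := exists_central hwG W
    rcases h.val z hz1 with hza | hzb | hzc
    · have hL := nilpotent_pair h.amult h.ltA h.dvdA hw hs hws hzp hz1 hza (hsc.trans h.c_dvd_card)
        (fun hd => hs.ne_one (Nat.eq_one_of_dvd_coprimes h.cop hd hsc))
        (fun g hg hf => h.sizeA hsc hg hf)
      exact hns (solvable_of_nil_primePow hL hp fun v hv hvd => hA v hv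
        (by rw [← hza]; exact hvd))
    · have hwb : ¬ w ∣ b := hzb ▸ hzf
      by_cases hD : cent z ≤ Subgroup.centralizer (cent z : Set G) ∧ Subgroup.normalizer (cent z : Set G) ≤ cent z
      · refine not_dvd_commutator W hWz ?_ hD.1 hD.2 hwK
        exact fun g hg => mem_cent.2 (Subgroup.mem_centralizer_iff.1 hg z hzW).symm
      have h1 := two_mul_conjU_le (cent z) hD
      rw [show (cent z).index = b from hzb] at h1
      have hcov : ({1}ᶜ : Set G) ⊆ conjU {x : G | x ∈ centPart (cent z) ∧ x ≠ 1} := by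
        intro g hg
        have hg1 : g ≠ 1 := hg
        rcases h.val g hg1 with e | e | e <;>
          exact mem_conjU h.bmax W hzW hz1 hWz hzb hg1 (e ▸ by assumption)
      have h3 := Set.ncard_le_ncard hcov (Set.toFinite _)
      rw [Set.ncard_compl, Set.ncard_singleton] at h3
      obtain ⟨x, hx1, -⟩ := h.exA
      have : 1 < Nat.card G := Finite.one_lt_card_iff_nontrivial.2 ⟨⟨x, 1, hx1⟩⟩
      have := h.ltA
      have := h.a1
      omega
    · have hL := nilpotent_pair h.symm.amult h.ltC h.dvdC hw hp hwp hzp hz1 hzc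
        (hpa.trans h.symm.c_dvd_card) (fun hd => hp.ne_one (Nat.eq_one_of_dvd_coprimes h.cop.symm hd hpa))
        (fun g hg hf => h.symm.sizeA hpa hg hf)
      exact hns (solvable_of_nil_primePow hL hs fun v hv hvd => hC v hv (by rw [← hzc]; exact hvd))
  refine hns (solvable_of_commutator (Char.isSolvable_of_two_primes hp hs _ rfl fun w hw hwK => ?_))
  by_contra hno
  push Not at hno
  exact hgood w hw hno.1 hno.2 hwK

end Cfsg.Agent.Char.ThreeIndex
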