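import Cfsg.Agent.Lib.Char.ThreeIndex.Tools

/-!
# Solvable groups whose noncentral primary elements have equally large centralizers are nilpotent
-/

set_option autoImplicit false
set_option linter.style.haveILetI false
set_option linter.unusedSectionVars false

namespace Cfsg.Agent.Char.ThreeIndex

open Cfsg.Agent.Perm.CoprimeSizes Cfsg.Agent.Perm.CoprimeFour

universe u

variable {G : Type u} [Group G] [Finite G]

/-- A `p`-subgroup of `K` above an image of a Sylow subgroup of `D`, where `|K| = |D|`, equals it. -/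
theorem eq_sylow_image {p : ℕ} [Fact p.Prime] {D K H : Subgroup G} (T : Sylow p D)
    (hH : IsPGroup p H) (hle : (T : Subgroup D).map D.subtype ≤ H) (hHK : H ≤ K)
    (hcard : Nat.card K = Nat.card D) : H = (T : Subgroup D).map D.subtype := by
  obtain ⟨k, hk⟩ := IsPGroup.iff_card.1 hH
  have hd : p ^ k ∣ Nat.card D := hcard ▸ hk ▸ Subgroup.card_dvd_of_le hHK
  have h2 := T.pow_dvd_card_of_pow_dvd_card hd
  refine (Subgroup.eq_of_le_of_card_ge hle ?_).symm
  rw [Subgroup.card_map_of_injective D.subtype_injective, hk]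
  exact Nat.le_of_dvd Nat.card_pos h2

theorem pgroup_sup_commute {p : ℕ} [Fact p.Prime] {S : Subgroup G} (hS : IsPGroup p S) {d : G}
    (hd : Prim p d) (hc : S ≤ cent d) : IsPGroup p (S ⊔ Subgroup.zpowers d : Subgroup G) :=
  hS.to_sup_of_normal_left' hd.isPGroup fun w hw =>
    Subgroup.centralizer_le_normalizer _ (Subgroup.mem_centralizer_iff.2 fun a ha =>
      mem_cent.1 (cent_le_of_mem_zpowers hw (hc ha)))

variable {m : ℕ}

/-- An element of `r`-power order centralizes `O_q`. -/
theorem centralizes_pCore (h : ∀ (p : ℕ) (g : G), p.Prime → Prim p g →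
      g ∈ Subgroup.center G ∨ Nat.card (cent g) = m)
    {q r : ℕ} (hq : q.Prime) (hr : r.Prime) (hqr : q ≠ r) {t : G} (ht : Prim r t) :
    Cfsg.pCore q G ≤ cent t := by
  rcases h r t hr ht with hz | hm
  · exact fun x _ => mem_cent.2 (Subgroup.mem_center_iff.1 hz x)
  haveI := Fact.mk hq
  haveI hON := Solv.pCore_normal (G := G) q
  have hOp := Solv.pCore_isPGroup (G := G) q
  set O := Cfsg.pCore q G with hO
  obtain ⟨T⟩ : Nonempty (Sylow q (cent t)) := inferInstance
  set A := (T : Subgroup (cent t)).map (cent t).subtype with hA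
  have hAp : IsPGroup q A := T.isPGroup'.map _
  have hAt : A ≤ cent t := Subgroup.map_subtype_le _
  have hAO : O ⊓ cent t ≤ A := by
    have hle : A ⊔ (O ⊓ cent t) ≤ cent t := sup_le hAt inf_le_right
    have hp : IsPGroup q (A ⊔ (O ⊓ cent t) : Subgroup G) :=
      (hAp.to_sup_of_normal_right hOp).to_le (sup_le_sup_left inf_le_left A)
    have e := eq_sylow_image T hp le_sup_left hle rfl
    exact le_sup_right.trans e.le
  by_contra hno
  set P := A ⊔ O with hP
  have hPp : IsPGroup q P := hAp.to_sup_of_normal_right hOp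
  have hlt : A.subgroupOf P < ⊤ := by
    rw [lt_top_iff_ne_top, Ne, Subgroup.subgroupOf_eq_top]
    exact fun hle => hno (fun x hx => hAt (hle (Subgroup.mem_sup_right hx)))
  haveI : Group.IsNilpotent P := hPp.isNilpotent
  obtain ⟨⟨d, hdP⟩, hdn, hdA⟩ :=
    SetLike.exists_of_lt (Group.normalizerCondition_of_isNilpotent _ hlt)
  -- move `d` into `O`
  obtain ⟨a₀, ha₀, o, ho, hd⟩ := Subgroup.mem_sup_of_normal_right.1 hdP
  have hdn' : ∀ x ∈ A, d * x * d⁻¹ ∈ A ∧ d⁻¹ * x * d ∈ A := by
    intro x hx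
    refine ⟨?_, ?_⟩
    · have := (Subgroup.mem_normalizer_iff.1 hdn ⟨x, Subgroup.mem_sup_left hx⟩).1
        (Subgroup.mem_subgroupOf.2 hx)
      exact Subgroup.mem_subgroupOf.1 this
    · have := (Subgroup.mem_normalizer_iff.1 (inv_mem hdn) ⟨x, Subgroup.mem_sup_left hx⟩).1
        (Subgroup.mem_subgroupOf.2 hx)
      simpa using Subgroup.mem_subgroupOf.1 this
  have hoA : o ∉ A := fun hh => hdA (Subgroup.mem_subgroupOf.2 (by
    show d ∈ A
    rw [← hd]; exact mul_mem ha₀ hh))
  have hon : ∀ x ∈ A, o⁻¹ * x * o ∈ A ∧ o * x * o⁻¹ ∈ A := by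
    intro x hx
    have e1 : o⁻¹ * x * o = d⁻¹ * (a₀ * x * a₀⁻¹) * d := by rw [← hd]; group
    have e2 : o * x * o⁻¹ = a₀⁻¹ * (d * x * d⁻¹) * a₀ := by rw [← hd]; group
    exact ⟨e1 ▸ (hdn' _ (mul_mem (mul_mem ha₀ hx) (inv_mem ha₀))).2,
      e2 ▸ mul_mem (mul_mem (inv_mem ha₀) (hdn' x hx).1) ha₀⟩
  set e := o * t * o⁻¹ * t⁻¹ with he
  have heO : e ∈ O := by
    rw [he, show o * t * o⁻¹ * t⁻¹ = o * (t * o⁻¹ * t⁻¹) by group]
    exact mul_mem ho (hON.conj_mem _ (inv_mem ho) t)
  -- `e` commutes with `A`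
  have heA : A ≤ cent e := by
    intro a ha
    have hat : a * t = t * a := mem_cent.1 (hAt ha)
    set f := o⁻¹ * a * o * a⁻¹ with hf
    have hfA : f ∈ A := mul_mem (hon a ha).1 (inv_mem ha)
    have hft : f * t = t * f := mem_cent.1 (hAt hfA)
    refine mem_cent.2 ?_
    have h1 : a * e * a⁻¹ = (o * f) * t * (o * f)⁻¹ * t⁻¹ := by
      have e1 : o * f = a * o * a⁻¹ := by rw [hf]; group
      have e2 : a * t * a⁻¹ = t := by rw [hat, mul_inv_cancel_right]
      have e3 : a * t⁻¹ * a⁻¹ = t⁻¹ := by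
        rw [show a * t⁻¹ * a⁻¹ = (a * t * a⁻¹)⁻¹ by group, e2]
      calc a * e * a⁻¹
          = (a * o * a⁻¹) * (a * t * a⁻¹) * (a * o * a⁻¹)⁻¹ * (a * t⁻¹ * a⁻¹) := by rw [he]; group
        _ = _ := by rw [e1, e2, e3]
    have h2 : (o * f) * t * (o * f)⁻¹ * t⁻¹ = e := by
      rw [he, show (o * f) * t * (o * f)⁻¹ = o * (f * t * f⁻¹) * o⁻¹ by group, hft, mul_inv_cancel_right]
    exact mul_inv_eq_iff_eq_mul.1 (h1.trans h2)
  obtain ⟨i, hi⟩ := IsPGroup.iff_orderOf.1 hOp ⟨e, heO⟩
  rw [Subgroup.orderOf_mk] at hi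
  have hep : Prim q e := ⟨i, hi⟩
  -- `e` commutes with `t`
  have het : e * t = t * e := by
    rcases h q e hq hep with hz | hm'
    · exact (Subgroup.mem_center_iff.1 hz t).symm
    · have hH : A ⊔ Subgroup.zpowers e ≤ cent e :=
        sup_le heA (Subgroup.zpowers_le.2 (self_mem_cent e))
      have e' := eq_sylow_image T (pgroup_sup_commute hAp hep heA) le_sup_left hH (hm'.trans hm.symm)
      exact mem_cent.1 (hAt (e'.le (Subgroup.mem_sup_right (Subgroup.mem_zpowers e))))
  have hconj : o * t * o⁻¹ = e * t := by rw [he, inv_mul_cancel_right]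
  have hpow : e ^ orderOf t = 1 := by
    have h1 : (e * t) ^ orderOf t = 1 := by
      rw [← hconj, conj_pow, pow_orderOf_eq_one, mul_one, mul_inv_cancel]
    rwa [(show Commute e t from het).mul_pow, pow_orderOf_eq_one, mul_one] at h1
  have he1 : e = 1 := by
    obtain ⟨j, hj⟩ := ht
    refine orderOf_eq_one_iff.1 (Nat.eq_one_of_dvd_coprimes
      (show (q ^ i).Coprime (r ^ j) from Nat.Coprime.pow i j ((Nat.coprime_primes hq hr).2 hqr))
      (dvd_of_eq hi) ?_)
    rw [← hj]; exact orderOf_dvd_of_pow_eq_one hpow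
  rw [he1, one_mul] at hconj
  exact hoA (hAO ⟨ho, mem_cent.2 (mul_inv_eq_iff_eq_mul.1 hconj)⟩)

/-- A solvable group whose noncentral elements of prime power order have centralizers of one order is nilpotent. -/
theorem nilpotent_of_primary (hs : Group.IsSolvable G) (h : ∀ (p : ℕ) (g : G), p.Prime → Prim p g →
      g ∈ Subgroup.center G ∨ Nat.card (cent g) = m) : Group.IsNilpotent G := by
  set F := Cfsg.fittingSubgroup G with hF
  haveI hFn : F.Normal := Solv.fittingSubgroup_normal
  have hFnil : Group.IsNilpotent F := by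
    rw [hF, Solv.fitting_eq_iSup_pCore]; exact Solv.iSup_pCore_nilpotent
  suffices hall : ∀ (r : ℕ) (t : G), r.Prime → Prim r t → t ∈ F by
    have htop : F = ⊤ := by
      refine Solv.eq_top_of_forall_sylow_le F fun p hp => ?_
      obtain ⟨P⟩ : Nonempty (Sylow p G) := inferInstance
      exact ⟨P, fun x hx => hall p x hp.out (prim_of_mem_sylow P hx)⟩
    rw [htop] at hFnil
    haveI := hFnil
    exact Group.nilpotent_of_mulEquiv Subgroup.topEquiv
  intro r t hr ht
  let M : Subgroup G := ⨅ q : {q : ℕ // q.Prime ∧ q ≠ r}, Subgroup.centralizer (Cfsg.pCore q.1 G : Set G)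
  haveI hMn : M.Normal := Subgroup.normal_iInf_normal fun q => by
    haveI := Solv.pCore_normal (G := G) q.1
    infer_instance
  have hmemM : ∀ {g : G}, g ∈ M ↔ ∀ q : ℕ, q.Prime → q ≠ r → Cfsg.pCore q G ≤ cent g := by
    intro g
    simp only [M, Subgroup.mem_iInf, Subgroup.mem_centralizer_iff, Subtype.forall, and_imp]
    exact ⟨fun hh q hq hqr x hx => mem_cent.2 (hh q hq hqr x hx),
      fun hh q hq hqr x hx => mem_cent.1 (hh q hq hqr hx)⟩
  have htM : t ∈ M := hmemM.2 fun q hq hqr => centralizes_pCore h hq hr hqr ht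
  have hcentral : ∀ (q : ℕ) (g : G), q.Prime → q ≠ r → Prim q g → g ∈ M → ∀ x ∈ M, g * x = x * g := by
    intro q g hq hqr hg hgM x hx
    haveI := Fact.mk hq
    have hgF : g ∈ Subgroup.centralizer (F : Set G) := by
      have hle : F ≤ cent g := by
        rw [hF, Solv.fitting_eq_iSup_pCore]
        refine iSup_le fun p => ?_
        by_cases hpq : (p : ℕ) = q
        · rw [hpq]; exact hmemM.1 hgM q hq hqr
        · exact centralizes_pCore h p.2 hq hpq hg
      exact Subgroup.mem_centralizer_iff.2 fun y hy => mem_cent.1 (hle hy)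
    have hgF' : g ∈ F := Solv.centralizer_fitting_le hs hgF
    obtain ⟨Q⟩ : Nonempty (Sylow q F) := inferInstance
    haveI := hFnil
    have hQn : (Q : Subgroup F).Normal := Q.normal_of_normalizerCondition Group.normalizerCondition_of_isNilpotent
    haveI : (Q : Subgroup F).Characteristic := Q.characteristic_of_normal hQn
    have hQO : (Q : Subgroup F).map F.subtype ≤ Cfsg.pCore q G := Solv.normal_le_pCore (Q.2.map _)
    have hgQ : (⟨g, hgF'⟩ : F) ∈ (Q : Subgroup F) := by
      obtain ⟨Q', hQ'⟩ := exists_sylow_of_prim (Prim.mk hgF' hg)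
      haveI := Sylow.unique_of_normal Q hQn
      rwa [Subsingleton.elim Q' Q] at hQ'
    have hgO : g ∈ Cfsg.pCore q G := hQO (Subgroup.mem_map.2 ⟨_, hgQ, rfl⟩)
    exact mem_cent.1 (hmemM.1 hx q hq hqr hgO)
  haveI := Fact.mk hr
  have hMnil : Group.IsNilpotent M := by
    refine Group.of_quotient_center_nilpotent (IsPGroup.isNilpotent (p := r) ?_)
    refine IsPGroup.of_card (n := (Subgroup.center M).index.primeFactorsList.length)
      (Nat.eq_prime_pow_of_unique_prime_dvd Subgroup.index_ne_zero_of_finite fun {q} hq hqd => ?_)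
    by_contra hqr
    haveI := Fact.mk hq
    obtain ⟨Q⟩ : Nonempty (Sylow q M) := inferInstance
    refine Q.not_dvd_index (hqd.trans (Subgroup.index_dvd_of_le fun x hx => Subgroup.mem_center_iff.2 fun y => ?_))
    exact Subtype.ext (hcentral q x hq hqr (prim_of_mem_sylow Q hx).coe x.2 y y.2).symm
  exact Solv.normal_le_fitting hMnil htM

end Cfsg.Agent.Char.ThreeIndex
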