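import Cfsg.Agent.Lib.Char.ThreeIndex.CaseTwo
import Cfsg.Agent.Lib.Lie.RankThree.Incomparable
import Cfsg.Agent.S0205

/-!
# Trivial centre and at most three nontrivial class sizes
-/

set_option autoImplicit false
set_option linter.style.haveILetI false
set_option linter.unusedSectionVars false

namespace Cfsg.Agent.Char.ThreeIndex

open Cfsg.Agent.Perm.CoprimeSizes Cfsg.Agent.Perm.CoprimeFour

universe u

variable {G : Type u} [Group G] [Finite G]

theorem one_lt_cls (hZ : Subgroup.center G = ⊥) {x : G} (hx : x ≠ 1) : 1 < cls x := by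
  have h0 := cls_pos x
  have h1 : cls x ≠ 1 := fun e => hx (Subgroup.mem_bot.1 (hZ ▸ cls_eq_one_iff.1 e))
  omega

/-- The index set. -/
def sizes (G : Type u) [Group G] : Set ℕ :=
  {n : ℕ | 1 < n ∧ ∃ x : G, (Subgroup.centralizer ({x} : Set G)).index = n}

theorem cls_mem_sizes (hZ : Subgroup.center G = ⊥) {x : G} (hx : x ≠ 1) : cls x ∈ sizes G :=
  ⟨one_lt_cls hZ hx, x, rfl⟩

/-- Comparable indices give solvability. -/
theorem solvable_of_comparable (hZ : Subgroup.center G = ⊥) (h : Nat.card (sizes G) ≤ 3)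
    {x y : G} (hx : x ≠ 1) (hy : y ≠ 1) (hd : cls x ∣ cls y) (hne : cls x ≠ cls y) :
    Group.IsSolvable G := by
  classical
  have ha1 := one_lt_cls hZ hx
  have haG : cls x ∣ Nat.card G := Subgroup.index_dvd_card _
  -- central elements of Sylow subgroups for primes of `a` have a third index
  have hthird : ∀ p : ℕ, p.Prime → p ∣ cls x → ∃ z : G, z ≠ 1 ∧ ¬ p ∣ cls z ∧ cls z ≠ cls x ∧ cls z ≠ cls y := by
    intro p hp hpa
    haveI := Fact.mk hp
    obtain ⟨P⟩ : Nonempty (Sylow p G) := inferInstance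
    obtain ⟨z, -, hz1, -, -, hzf⟩ := exists_central (hpa.trans haG) P
    exact ⟨z, hz1, hzf, fun e => hzf (e ▸ hpa), fun e => hzf (e ▸ hpa.trans hd)⟩
  obtain ⟨p₀, hp₀, hp₀a⟩ := Nat.exists_prime_and_dvd ha1.ne'
  obtain ⟨w, hw, -, hwx, hwy⟩ := hthird p₀ hp₀ hp₀a
  have hfin : (sizes G).Finite := (Set.finite_range (fun g : G => cls g)).subset
    fun n hn => hn.2.imp fun g hg => hg
  have hsub : ({cls x, cls y, cls w} : Set ℕ) ⊆ sizes G := by
    rintro n (rfl | rfl | rfl)
    exacts [cls_mem_sizes hZ hx, cls_mem_sizes hZ hy, cls_mem_sizes hZ hw]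
  have heq : ({cls x, cls y, cls w} : Set ℕ) = sizes G := by
    refine Set.eq_of_subset_of_ncard_le hsub ?_ hfin
    rw [← Nat.card_coe_set_eq] 
    refine h.trans (le_of_eq ?_)
    exact (Set.ncard_eq_three.2 ⟨_, _, _, hne, hwx.symm, hwy.symm, rfl⟩).symm
  have hval : ∀ g : G, g ≠ 1 → cls g = cls x ∨ cls g = cls y ∨ cls g = cls w := fun g hg => by
    have := cls_mem_sizes hZ hg
    rw [← heq] at this
    simpa using this
  have hcop : (cls x).Coprime (cls w) := by
    refine Nat.coprime_of_dvd fun p hp hpa hpc => ?_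
    obtain ⟨z, hz1, hzf, hzx, hzy⟩ := hthird p hp hpa
    rcases hval z hz1 with e | e | e
    · exact hzx e
    · exact hzy e
    · exact hzf (e ▸ hpc)
  have hlt : cls x < cls y := lt_of_le_of_ne (Nat.le_of_dvd (cls_pos y) hd) hne
  by_cases hcb : cls w ∣ cls y
  · exact Two.solvable (a := cls x) (b := cls y) (c := cls w) ⟨hval, ⟨x, hx, rfl⟩, ⟨w, hw, rfl⟩, hd, hcb, hlt,
      lt_of_le_of_ne (Nat.le_of_dvd (cls_pos y) hcb) hwy, hcop, ha1, one_lt_cls hZ hw⟩
  · exact One.solvable (a := cls x) (b := cls y) (c := cls w) ⟨hval, ⟨w, hw, rfl⟩, hd, hlt, hcop, hcb, ha1,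
      one_lt_cls hZ hw⟩

/-- Incomparable indices. -/
theorem psl_of_incomparable (hZ : Subgroup.center G = ⊥) (hns : ¬ Group.IsSolvable G)
    (hF : Lie.RankThree.Incomparable G) :
    ∃ a : ℕ, 0 < a ∧ Nonempty (G ≃* Matrix.ProjectiveSpecialLinearGroup (Fin 2) (GaloisField 2 a)) := by
  classical
  haveI : Fact (Nat.Prime 2) := ⟨Nat.prime_two⟩
  obtain ⟨T⟩ : Nonempty (Sylow 2 G) := inferInstance
  have hodd : ∀ N : Subgroup G, N.Normal → Odd N.index → Group.IsSolvable N → False := by
    intro N hN ho hs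
    haveI := hN
    haveI := hs
    haveI : Group.IsSolvable (G ⧸ N) := S0205.result ho
    exact hns (Group.isSolvable_of_ker_le_range N.subtype (QuotientGroup.mk' N)
      (by rw [QuotientGroup.ker_mk', Subgroup.range_subtype]))
  have hTsol : Group.IsSolvable (T : Subgroup G) := by
    haveI := T.isPGroup'.isNilpotent
    infer_instance
  have hoddT : Odd (T : Subgroup G).index := by
    rw [← Nat.not_even_iff_odd, even_iff_two_dvd]; exact T.not_dvd_index
  have hnn : ¬ (T : Subgroup G).Normal := fun hn => hodd _ hn hoddT hTsol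
  have hnc : ¬ IsCyclic ↥(T : Subgroup G) := by
    intro hc
    have heven : 2 ∣ Nat.card G := by
      by_contra hno
      exact hns (S0205.result (Nat.not_even_iff_odd.1 (by rwa [even_iff_two_dvd])))
    have hmin : (Nat.card G).minFac = 2 := (Nat.minFac_eq_two_iff _).2 heven
    have hle := IsCyclic.normalizer_le_centralizer hmin hc
    have hcompl := MonoidHom.ker_transferSylow_isComplement' T hle
    set K := (MonoidHom.transferSylow T hle).ker with hK
    have hKodd : Odd (Nat.card K) := by
      rw [← hcompl.index_eq_card]; exact hoddT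
    haveI : Group.IsSolvable K := S0205.result hKodd
    haveI := hTsol
    exact hns (Group.isSolvable_of_ker_le_range K.subtype (MonoidHom.transferSylow T hle)
      (by rw [Subgroup.range_subtype]))
  obtain ⟨F, iF, iFF, A, iA, iAF, hchar, -, ⟨e⟩⟩ := Classical.InvAb.exists_iso hF.iac T hnc hnn
  have hA : ∀ x : A, x = 1 := fun x => by
    have hc : e.symm (1, x) ∈ Subgroup.center G := Subgroup.mem_center_iff.2 fun g => e.injective (by
      rw [map_mul, map_mul, MulEquiv.apply_symm_apply]
      exact Prod.ext (by simp) (mul_comm _ _))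
    rw [hZ, Subgroup.mem_bot] at hc
    have := congrArg e hc
    rw [MulEquiv.apply_symm_apply, map_one] at this
    exact congrArg Prod.snd this
  let e' : G ≃* Matrix.SpecialLinearGroup (Fin 2) F :=
    e.trans
      { toFun := Prod.fst
        invFun := fun x => (x, 1)
        left_inv := fun p => Prod.ext rfl (hA p.2).symm
        right_inv := fun _ => rfl
        map_mul' := fun _ _ => rfl }
  obtain ⟨m, -, hm⟩ := FiniteField.card F 2
  haveI : Fintype (GaloisField 2 m) := Fintype.ofFinite _
  have hcard : Fintype.card F = Fintype.card (GaloisField 2 m) := by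
    rw [hm, ← Nat.card_eq_fintype_card, GaloisField.card 2 m m.ne_zero]
  let σ : F ≃+* GaloisField 2 m := FiniteField.ringEquivOfCardEq hcard
  let μ : Matrix.SpecialLinearGroup (Fin 2) F ≃* Matrix.SpecialLinearGroup (Fin 2) (GaloisField 2 m) :=
    { toFun := Matrix.SpecialLinearGroup.map σ.toRingHom
      invFun := Matrix.SpecialLinearGroup.map σ.symm.toRingHom
      left_inv := fun x => Matrix.SpecialLinearGroup.ext _ _ fun i j => σ.symm_apply_apply (x.1 i j)
      right_inv := fun x => Matrix.SpecialLinearGroup.ext _ _ fun i j => σ.apply_symm_apply (x.1 i j)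
      map_mul' := map_mul _ }
  have hz : Subgroup.center (Matrix.SpecialLinearGroup (Fin 2) (GaloisField 2 m)) = ⊥ := by
    let f := e'.trans μ
    refine (Subgroup.eq_bot_iff_forall _).2 fun x hx => ?_
    have hc : f.symm x ∈ Subgroup.center G := Subgroup.mem_center_iff.2 fun g => f.injective (by
      rw [map_mul, map_mul, MulEquiv.apply_symm_apply, Subgroup.mem_center_iff.1 hx])
    rw [hZ, Subgroup.mem_bot] at hc
    exact f.symm.injective (hc.trans (map_one _).symm)
  exact ⟨m, m.pos, ⟨(e'.trans μ).trans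
    ((QuotientGroup.quotientMulEquivOfEq hz).trans QuotientGroup.quotientBot).symm⟩⟩

end Cfsg.Agent.Char.ThreeIndex
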