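import Cfsg.Agent.Lib.Char.ThreeIndex.Fitting
import Cfsg.Agent.S4134
import Cfsg.Agent.Lib.Char.Burnside

/-!
# Centralizers with a large centre are nilpotent
-/

set_option autoImplicit false
set_option linter.style.haveILetI false
set_option linter.unusedSectionVars false

namespace Cfsg.Agent.Char.ThreeIndex

open Cfsg.Agent.Perm.CoprimeSizes Cfsg.Agent.Perm.CoprimeFour

universe u

variable {G : Type u} [Group G] [Finite G]

/-- At most one nontrivial class size: nilpotent. -/
theorem nilpotent_of_two_sizes (n : ℕ) (h : ∀ x : G, cls x = 1 ∨ cls x = n) : Group.IsNilpotent G := by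
  by_cases hex : ∃ x : G, cls x = n ∧ 1 < n
  · obtain ⟨x, hx, hn⟩ := hex
    obtain ⟨p, hp, a, -, hP⟩ := S4134.result n hn h ⟨x, hx⟩
    obtain ⟨P⟩ : Nonempty (Sylow p G) := inferInstance
    obtain ⟨hPn, ⟨N, hN, hc, hNc, hcomm⟩, -⟩ := hP P
    haveI := hN
    have hsup : N ⊔ (P : Subgroup G) = ⊤ := hc.isCompl.sup_eq_top
    have hZ : N ≤ Subgroup.center G := by
      intro y hy
      refine Subgroup.mem_center_iff.2 fun g => ?_
      obtain ⟨u, hu, v, hv, rfl⟩ := Subgroup.mem_sup_of_normal_left.1 (hsup.symm ▸ Subgroup.mem_top g : g ∈ N ⊔ (P : Subgroup G))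
      have h1 : u * y = y * u := congrArg Subtype.val (IsMulCommutative.is_comm.comm (⟨u, hu⟩ : N) ⟨y, hy⟩)
      rw [mul_assoc, ← hcomm y hy v hv, ← mul_assoc, h1, mul_assoc]
    haveI : Group.IsNilpotent (G ⧸ N) := by
      refine IsPGroup.isNilpotent (p := p) ?_
      obtain ⟨k, hk⟩ := IsPGroup.iff_card.1 P.isPGroup'
      refine IsPGroup.of_card (n := k) ?_
      show N.index = p ^ k
      rw [← hk]
      exact hc.symm.index_eq_card
    exact Subgroup.isNilpotent_of_ker_le_center (QuotientGroup.mk' N) (by rwa [QuotientGroup.ker_mk'])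
  · push Not at hex
    refine Group.of_quotient_center_nilpotent ?_
    have htop : Subgroup.center G = ⊤ := by
      rw [eq_top_iff]
      intro x _
      rcases h x with e | e
      · exact cls_eq_one_iff.1 e
      · have := hex x e
        have := cls_pos x
        exact cls_eq_one_iff.1 (by omega)
    haveI : Subsingleton (G ⧸ Subgroup.center G) := by
      rw [htop]; exact QuotientGroup.subsingleton_quotient_top
    infer_instance

/-- The sizes occurring among the multiples of `a` are `a` and `b`. -/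
def AMult (G : Type u) [Group G] (a b : ℕ) : Prop :=
  ∀ g : G, g ≠ 1 → a ∣ cls g → cls g = a ∨ cls g = b

variable {a b : ℕ}

theorem size_reg (hM : AMult G a b) {z v : G} (hz : cls z = a) (hz1 : z ≠ 1) (hc : v ∈ cent z)
    (ho : (orderOf z).Coprime (orderOf v)) :
    (cent z ⊓ cent v).index = a ∨ (cent z ⊓ cent v).index = b := by
  have hcm : z * v = v * z := (mem_cent.1 hc).symm
  rw [← cent_mul_of_coprime hcm ho]
  refine hM _ (Lie.RankThree.mul_ne_one_of_coprime hcm ho hz1) ?_
  rw [← hz]
  show cls z ∣ (cent (z * v)).index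
  rw [cent_mul_of_coprime hcm ho]
  exact index_inf_dvd.1

theorem le_cent_of_index {L : Subgroup G} (hL : L.index = a) {v : G}
    (h : (L ⊓ cent v).index = a) : L ≤ cent v :=
  (eq_of_le_of_index_eq inf_le_left (h.trans hL.symm)).ge.trans inf_le_right

/-- All indices in `L` being `a` or `b` makes `L` nilpotent. -/
theorem nilpotent_of_indices {L : Subgroup G} (hL : L.index = a)
    (h : ∀ v ∈ L, (L ⊓ cent v).index = a ∨ (L ⊓ cent v).index = b) : Group.IsNilpotent L := by
  refine nilpotent_of_two_sizes (b / a) fun x => ?_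
  have ha : 0 < a := hL ▸ Nat.pos_of_ne_zero Subgroup.index_ne_zero_of_finite
  have e : cls x * a = (L ⊓ cent (x : G)).index := by
    rw [cls_subgroup, ← hL, ← Subgroup.inf_relIndex_right, inf_comm]
    exact Subgroup.relIndex_mul_index inf_le_left
  rcases h x x.2 with e' | e'
  · exact Or.inl (Nat.eq_of_mul_eq_mul_right ha (by rw [one_mul, e, e']))
  · right
    rw [← e', ← e, Nat.mul_div_cancel _ ha]

theorem coprime_of_zpowers {l v : G} {n : ℕ} (hv : v ∈ Subgroup.zpowers l) (h : (orderOf l).Coprime n) :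
    (orderOf v).Coprime n := by
  obtain ⟨i, rfl⟩ := Subgroup.mem_zpowers_iff.1 hv
  exact h.coprime_dvd_left (orderOf_dvd_of_pow_eq_one (by
    rw [← zpow_natCast, ← zpow_mul, mul_comm, zpow_mul, zpow_natCast, pow_orderOf_eq_one, one_zpow]))

/-- A centralizer with central primary elements of two primes is nilpotent. -/
theorem nilpotent_two (hM : AMult G a b) (hab : a < b) (hdvd : a ∣ b) {z z' : G} {q q' : ℕ}
    (hq : q.Prime) (hq' : q'.Prime) (hne : q ≠ q') (hzp : Prim q z) (hz'p : Prim q' z') (hz1 : z ≠ 1)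
    (hz'1 : z' ≠ 1) (hza : cls z = a) (heq : cent z' = cent z) : Group.IsNilpotent (cent z) := by
  classical
  haveI := Fact.mk hq
  haveI := Fact.mk hq'
  set L := cent z with hLdef
  have hLi : L.index = a := hza
  have regq : ∀ v ∈ L, (orderOf v).Coprime q → (L ⊓ cent v).index = a ∨ (L ⊓ cent v).index = b :=
    fun v hv ho => size_reg hM hza hz1 hv (coprime_prim ho hzp).symm
  have regq' : ∀ v ∈ L, (orderOf v).Coprime q' → (L ⊓ cent v).index = a ∨ (L ⊓ cent v).index = b := by
    intro v hv ho
    have := size_reg hM (z := z') (show (cent z').index = a by rw [heq]; exact hza) hz'1 (heq.symm ▸ hv)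
      (coprime_prim ho hz'p).symm
    rwa [heq] at this
  have hsub : ∀ {H : Subgroup G}, H.index = a ∨ H.index = b → ∀ {K : Subgroup G}, H ≤ K → K.index = b →
      H = K := by
    intro H hH K hle hK
    refine eq_of_le_of_index_eq hle ?_
    rcases hH with e | e
    · have := Nat.le_of_dvd (hLi ▸ Nat.pos_of_ne_zero Subgroup.index_ne_zero_of_finite)
        (hK ▸ e ▸ Subgroup.index_dvd_of_le hle)
      omega
    · rw [e, hK]
  by_cases hall : ∀ l ∈ L, (L ⊓ cent l).index = a ∨ (L ⊓ cent l).index = b
  · exact nilpotent_of_indices hLi hall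
  push Not at hall
  obtain ⟨l, hl, hla, hlb⟩ := hall
  obtain ⟨u, v, hul, hvl, huv, hup, hvo⟩ := Solv.exists_ppart q l
  have huL : u ∈ L := mem_of_zpowers_mem hl hul
  have hvL : v ∈ L := mem_of_zpowers_mem hl hvl
  have huvc : u * v = v * u := comm_of_mem_zpowers hul hvl
  have hsplit : cent l = cent u ⊓ cent v := by
    rw [← huv]; exact cent_mul_of_coprime huvc (coprime_prim hvo hup).symm
  have huo : (orderOf u).Coprime q' := Prim.coprime_prime hq hq' hne hup
  set D := L ⊓ cent v with hD
  set E := L ⊓ cent u with hE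
  have hl' : L ⊓ cent l = E ⊓ D := by rw [hsplit, hD, hE, ← inf_inf_distrib_left]
  rw [hl'] at hla hlb
  have hDb : D.index = b := by
    rcases regq v hvL hvo with e | e
    · exfalso
      have hle : E ≤ D := le_inf inf_le_left (inf_le_left.trans (le_cent_of_index hLi e))
      rw [inf_eq_left.2 hle] at hla hlb
      rcases regq' u huL huo with e' | e' <;> contradiction
    · exact e
  have hEb : E.index = b := by
    rcases regq' u huL huo with e | e
    · exfalso
      have hle : D ≤ E := le_inf inf_le_left (inf_le_left.trans (le_cent_of_index hLi e))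
      rw [inf_eq_right.2 hle] at hla hlb
      exact hlb hDb
    · exact e
  have hDE : E ≠ D := fun e => by rw [e, inf_idem] at hlb; exact hlb hDb
  -- the part of `v` prime to `q'` is central
  obtain ⟨v₁, v₂, h1v, h2v, hv12, hv1p, hv2o⟩ := Solv.exists_ppart q' v
  have hv2L : v₂ ∈ L := mem_of_zpowers_mem hvL h2v
  have hv1L : v₁ ∈ L := mem_of_zpowers_mem hvL h1v
  have hv2q : (orderOf v₂).Coprime q := coprime_of_zpowers h2v hvo
  have hv2u : v₂ ∈ cent u := mem_cent.2 (comm_of_mem_zpowers (Subgroup.zpowers_le.2 hvl h2v) hul)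
  have hv2c : L ≤ cent v₂ := by
    rcases regq v₂ hv2L hv2q with e | e
    · exact le_cent_of_index hLi e
    exfalso
    have e2 : D = L ⊓ cent v₂ :=
      hsub (Or.inr hDb) (inf_le_inf_left L (cent_le_of_mem_zpowers h2v)) e
    have hco : (orderOf u).Coprime (orderOf v₂) := (coprime_prim hv2q hup).symm
    have hcm : u * v₂ = v₂ * u := (mem_cent.1 hv2u).symm
    have hord : (orderOf (u * v₂)).Coprime q' :=
      (Nat.Coprime.mul_left huo hv2o).coprime_dvd_left (Commute.orderOf_mul_dvd_mul_orderOf hcm)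
    have e3 := regq' (u * v₂) (mul_mem huL hv2L) hord
    rw [cent_mul_of_coprime hcm hco, inf_inf_distrib_left, ← e2, ← hE] at e3
    exact hDE ((hsub e3 inf_le_left hEb).symm.trans (hsub e3 inf_le_right hDb))
  have hDv1 : D = L ⊓ cent v₁ := by
    refine le_antisymm (inf_le_inf_left L (cent_le_of_mem_zpowers h1v)) (le_inf inf_le_left ?_)
    intro g hg
    have hc1 : Commute g v₁ := mem_cent.1 hg.2
    have hc2 : Commute g v₂ := mem_cent.1 (hv2c hg.1)
    refine mem_cent.2 ?_
    rw [← hv12]
    exact (hc1.mul_right hc2).eq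
  have huv1 : u * v₁ = v₁ * u := comm_of_mem_zpowers hul (Subgroup.zpowers_le.2 hvl h1v)
  -- elements of `D` of order prime to `q q'` are central in `L`
  have hthird : ∀ d ∈ D, (orderOf d).Coprime q → (orderOf d).Coprime q' → L ≤ cent d := by
    intro d hd hdq hdq'
    rcases regq d hd.1 hdq with e | e
    · exact le_cent_of_index hLi e
    exfalso
    have hdv1 : d ∈ cent v₁ := (hDv1 ▸ hd : d ∈ L ⊓ cent v₁).2
    have hcm : v₁ * d = d * v₁ := (mem_cent.1 hdv1).symm
    have hord : (orderOf (v₁ * d)).Coprime q :=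
      (Nat.Coprime.mul_left (coprime_of_zpowers h1v hvo) hdq).coprime_dvd_left
        (Commute.orderOf_mul_dvd_mul_orderOf hcm)
    have e3 := regq (v₁ * d) (mul_mem hv1L hd.1) hord
    rw [cent_mul_of_coprime hcm (coprime_prim hdq' hv1p).symm, inf_inf_distrib_left, ← hDv1] at e3
    have e4 : D = L ⊓ cent d := (hsub e3 inf_le_left hDb).symm.trans (hsub e3 inf_le_right e)
    have huD : u ∈ L ⊓ cent d := e4 ▸ (⟨huL, mem_cent.2 huvc⟩ : u ∈ D)
    have hcm' : u * d = d * u := mem_cent.1 huD.2
    have hord' : (orderOf (u * d)).Coprime q' :=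
      (Nat.Coprime.mul_left huo hdq').coprime_dvd_left (Commute.orderOf_mul_dvd_mul_orderOf hcm')
    have e5 := regq' (u * d) (mul_mem huL hd.1) hord'
    rw [cent_mul_of_coprime hcm' (coprime_prim hdq hup).symm, inf_inf_distrib_left, ← hE] at e5
    exact hDE (((hsub e5 inf_le_left hEb).symm.trans (hsub e5 inf_le_right e)).trans e4.symm)
  have hw : ∀ w : ℕ, w.Prime → w ≠ q → w ≠ q' → ∀ d ∈ L, Prim w d → L ≤ cent d := by
    intro w hw hwq hwq' d hd hdp
    haveI := Fact.mk hw
    have hdq := Prim.coprime_prime hw hq hwq hdp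
    rcases regq d hd hdq with e | e
    · exact le_cent_of_index hLi e
    obtain ⟨T⟩ : Nonempty (Sylow w D) := inferInstance
    set S := (T : Subgroup D).map D.subtype with hS
    have hSp : IsPGroup w S := T.isPGroup'.map _
    have hSD : S ≤ D := Subgroup.map_subtype_le _
    have hSc : S ≤ cent d := fun s hs => mem_cent_comm.1
      (hthird s (hSD hs) (Prim.coprime_prime hw hq hwq (by
        obtain ⟨k, hk⟩ := IsPGroup.iff_orderOf.1 hSp ⟨s, hs⟩
        exact ⟨k, by rwa [Subgroup.orderOf_mk] at hk⟩)) (Prim.coprime_prime hw hq' hwq' (by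
        obtain ⟨k, hk⟩ := IsPGroup.iff_orderOf.1 hSp ⟨s, hs⟩
        exact ⟨k, by rwa [Subgroup.orderOf_mk] at hk⟩)) hd)
    have hle : S ⊔ Subgroup.zpowers d ≤ L ⊓ cent d :=
      sup_le (le_inf (hSD.trans inf_le_left) hSc)
        (Subgroup.zpowers_le.2 ⟨hd, self_mem_cent d⟩)
    have hc : Nat.card (L ⊓ cent d : Subgroup G) = Nat.card D := by
      have h1 := Subgroup.card_mul_index (L ⊓ cent d)
      rw [← Subgroup.card_mul_index D, e, hDb] at h1
      exact Nat.eq_of_mul_eq_mul_right (hDb ▸ Nat.pos_of_ne_zero Subgroup.index_ne_zero_of_finite) h1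
    have e' := eq_sylow_image T (pgroup_sup_commute hSp hdp hSc) le_sup_left hle hc
    have hdD : d ∈ D := hSD (e'.le (Subgroup.mem_sup_right (Subgroup.mem_zpowers d)))
    exact hthird d hdD hdq (Prim.coprime_prime hw hq' hwq' hdp)
  -- `L` is solvable
  have hsol : Group.IsSolvable L := by
    haveI : Group.IsSolvable (L ⧸ Subgroup.center L) := by
      refine Char.isSolvable_of_two_primes hq hq' _ rfl fun w hwp hwd => ?_
      by_contra hno
      push Not at hno
      haveI := Fact.mk hwp
      obtain ⟨P⟩ : Nonempty (Sylow w L) := inferInstance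
      refine P.not_dvd_index (hwd.trans (Subgroup.index_dvd_of_le fun x hx =>
        Subgroup.mem_center_iff.2 fun y => ?_))
      exact Subtype.ext (mem_cent.1 (hw w hwp hno.1 hno.2 x x.2 (prim_of_mem_sylow P hx).coe y.2))
    haveI : Group.IsSolvable (Subgroup.center L) := Group.isSolvable_of_comm fun x y =>
      Subtype.ext (Subgroup.mem_center_iff.1 y.2 x)
    exact Group.isSolvable_of_ker_le_range (Subgroup.center L).subtype (QuotientGroup.mk' (Subgroup.center L))
      (by rw [QuotientGroup.ker_mk', Subgroup.range_subtype])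
  refine nilpotent_of_primary hsol (m := Nat.card D) fun p g hp hg => ?_
  have hidx : (L ⊓ cent (g : G)).index = a ∨ (L ⊓ cent (g : G)).index = b := by
    by_cases hpq : p = q
    · subst hpq
      exact regq' g g.2 (Prim.coprime_prime hp hq' hne hg.coe)
    · exact regq g g.2 (Prim.coprime_prime hp hq hpq hg.coe)
  rcases hidx with e | e
  · exact Or.inl (Subgroup.mem_center_iff.2 fun y => Subtype.ext (mem_cent.1 (le_cent_of_index hLi e y.2)))
  · right
    rw [cent_subgroupOf, ← Subgroup.inf_subgroupOf_left, Nat.card_congr (Subgroup.subgroupOfEquivOfLe inf_le_left).toEquiv]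
    have h1 := Subgroup.card_mul_index (L ⊓ cent (g : G))
    rw [← Subgroup.card_mul_index D, e, hDb] at h1
    exact Nat.eq_of_mul_eq_mul_right (hDb ▸ Nat.pos_of_ne_zero Subgroup.index_ne_zero_of_finite) h1

/-- A centralizer with a central `q`-element, `q` prime to all indices in it, is nilpotent. -/
theorem nilpotent_of_not_dvd (hM : AMult G a b) {z : G} {q : ℕ} [Fact q.Prime]
    (hzp : Prim q z) (hz1 : z ≠ 1) (hza : cls z = a) (hqa : ¬ q ∣ a) (hqb : ¬ q ∣ b) :
    Group.IsNilpotent (cent z) := by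
  classical
  set L := cent z with hLdef
  have hLi : L.index = a := hza
  obtain ⟨P, hPL⟩ := Perm.NilpotentHall.exists_sylow_le (H := L) (p := q) (by rwa [hLi])
  set C0 := L ⊓ Subgroup.centralizer ((P : Subgroup G) : Set G) with hC0
  have hfree : ∀ v ∈ L, (orderOf v).Coprime q → ((L ⊓ cent v).index = a ∨ (L ⊓ cent v).index = b) ∧
      ¬ q ∣ (L ⊓ cent v).index := by
    intro v hv ho
    have h := size_reg hM hza hz1 hv (coprime_prim ho hzp).symm
    exact ⟨h, by rcases h with e | e <;> rw [e] <;> assumption⟩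
  -- every element is conjugate into `P C0`
  have hcover : ((P : Subgroup G) ⊔ C0).subgroupOf L = ⊤ := by
    refine Solv.eq_top_of_forall_conj_mem _ fun x => ?_
    obtain ⟨u, v, hul, hvl, huv, hup, hvo⟩ := Solv.exists_ppart q (x : G)
    have huL : u ∈ L := mem_of_zpowers_mem x.2 hul
    have hvL : v ∈ L := mem_of_zpowers_mem x.2 hvl
    obtain ⟨Q, hQ⟩ := Perm.NilpotentHall.exists_sylow_le (H := L ⊓ cent v) (hfree v hvL hvo).2
    obtain ⟨k, hk, hku⟩ := Perm.NilpotentHall.conj_into (L ⊓ cent v) Q hQ (Subgroup.zpowers u)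
      (Prim.isPGroup hup)
      (Subgroup.zpowers_le.2 ⟨huL, mem_cent.2 (comm_of_mem_zpowers hul hvl)⟩)
    obtain ⟨k', hk', hk'Q⟩ := Perm.NilpotentHall.conj_into L P hPL (Q : Subgroup G) Q.isPGroup'
      (hQ.trans inf_le_left)
    have himg : ((Q : Subgroup G).map (MulAut.conj k').toMonoidHom) = (P : Subgroup G) := by
      refine Subgroup.eq_of_le_of_card_ge ?_ ?_
      · rintro _ ⟨y, hy, rfl⟩
        exact hk'Q y hy
      · rw [Subgroup.card_map_of_injective (MulAut.conj k').injective, Sylow.card_eq_multiplicity,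
          Sylow.card_eq_multiplicity]
    have hv' : k' * v * k'⁻¹ ∈ C0 := by
      refine Subgroup.mem_inf.2 ⟨mul_mem (mul_mem hk' hvL) (L.inv_mem hk'), Subgroup.mem_centralizer_iff.2 fun y hy => ?_⟩
      rw [← himg] at hy
      obtain ⟨y', hy', rfl⟩ := hy
      have hc := mem_cent.1 (hQ hy').2
      show k' * y' * k'⁻¹ * (k' * v * k'⁻¹) = k' * v * k'⁻¹ * (k' * y' * k'⁻¹)
      calc k' * y' * k'⁻¹ * (k' * v * k'⁻¹) = k' * (y' * v) * k'⁻¹ := by group
        _ = k' * (v * y') * k'⁻¹ := by rw [hc]
        _ = _ := by group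
    refine ⟨⟨k' * k, mul_mem hk' hk.1⟩, Subgroup.mem_subgroupOf.2 ?_⟩
    show k' * k * (x : G) * (k' * k)⁻¹ ∈ (P : Subgroup G) ⊔ C0
    have hkv : k * v * k⁻¹ = v := by rw [mem_cent.1 hk.2, mul_inv_cancel_right]
    have e : k' * k * (x : G) * (k' * k)⁻¹ = (k' * (k * u * k⁻¹) * k'⁻¹) * (k' * (k * v * k⁻¹) * k'⁻¹) := by
      rw [← huv]; group
    rw [e, hkv]
    exact mul_mem (Subgroup.mem_sup_left (hk'Q _ (hku u (Subgroup.mem_zpowers u)))) (Subgroup.mem_sup_right hv')
  -- both factors are normal and nilpotent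
  set P' := (P : Subgroup G).subgroupOf L with hP'
  set C' := C0.subgroupOf L with hC'
  have hsupL : P' ⊔ C' = ⊤ := by
    rw [hP', hC', ← Subgroup.subgroupOf_sup hPL inf_le_left]; exact hcover
  have hcommPC : ∀ x ∈ P', ∀ y ∈ C', x * y = y * x := fun x hx y hy => Subtype.ext
    (Subgroup.mem_centralizer_iff.1 (Subgroup.mem_subgroupOf.1 hy).2 x (Subgroup.mem_subgroupOf.1 hx))
  haveI hPn : P'.Normal := by
    rw [← Subgroup.normalizer_eq_top_iff, ← top_le_iff, ← hsupL]
    refine sup_le Subgroup.le_normalizer fun y hy => Subgroup.centralizer_le_normalizer _ ?_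
    exact Subgroup.mem_centralizer_iff.2 fun x hx => hcommPC x hx y hy
  haveI hCn : C'.Normal := by
    rw [← Subgroup.normalizer_eq_top_iff, ← top_le_iff, ← hsupL]
    refine sup_le (fun x hx => Subgroup.centralizer_le_normalizer _ ?_) Subgroup.le_normalizer
    exact Subgroup.mem_centralizer_iff.2 fun y hy => (hcommPC x hx y hy).symm
  have hPnil : Group.IsNilpotent P' := by
    haveI : Fact q.Prime := inferInstance
    exact (P.isPGroup'.comap_of_injective L.subtype L.subtype_injective).isNilpotent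
  have ha0 : 0 < a := hLi ▸ Nat.pos_of_ne_zero Subgroup.index_ne_zero_of_finite
  have hCnil : Group.IsNilpotent C' := by
    refine nilpotent_of_two_sizes (b / a) fun e => ?_
    obtain ⟨u, v, hue, hve, huv, hup, hvo⟩ := Solv.exists_ppart q e
    have huvc : u * v = v * u := comm_of_mem_zpowers hue hve
    have huP : ((u : L) : G) ∈ (P : Subgroup G) := by
      refine mem_sylow_of_commute P (Prim.coe (Prim.coe hup)) fun y hy => mem_cent.2 ?_
      exact Subgroup.mem_centralizer_iff.1 (Subgroup.mem_subgroupOf.1 u.2).2 y hy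
    have hu : u ∈ Subgroup.center C' := Subgroup.mem_center_iff.2 fun y => Subtype.ext
      (hcommPC (u : L) (Subgroup.mem_subgroupOf.2 huP) (y : L) y.2).symm
    have hcl : cls e = cls v := by
        rw [← huv]
        refine congrArg Subgroup.index (SetLike.ext fun g => ?_)
        have hg : Commute g u := Subgroup.mem_center_iff.1 hu g
        refine mem_cent.trans (Iff.trans ?_ mem_cent.symm)
        exact ⟨fun h => by
          have h' := hg.inv_right.mul_right (show Commute g (u * v) from h)
          rwa [inv_mul_cancel_left] at h', fun h => (hg.mul_right h).eq⟩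
    rw [hcl, cls_subgroup]
    -- move the index to `L`
    set H := cent (v : L) with hH
    have hPH : P' ≤ H := fun x hx => mem_cent.2 (hcommPC x hx (v : L) v.2)
    have htop : C' ⊔ H = ⊤ := by
      rw [← top_le_iff, ← hsupL]; exact sup_le (hPH.trans le_sup_right) le_sup_left
    have h1 := Solv.card_sup_mul_card_inf C' H
    rw [htop, Nat.card_congr Subgroup.topEquiv.toEquiv] at h1
    have h2 : H.relIndex C' * Nat.card (C' ⊓ H : Subgroup L) = Nat.card C' := by
      have := Subgroup.relIndex_mul_relIndex (⊥ : Subgroup L) (C' ⊓ H) C' bot_le inf_le_left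
      rw [Subgroup.relIndex_bot_left, Subgroup.relIndex_bot_left, Subgroup.inf_relIndex_left] at this
      rw [mul_comm, this]
    have h3 : H.relIndex C' = H.index := by
      refine Nat.eq_of_mul_eq_mul_right (Nat.mul_pos (Nat.card_pos (α := (C' ⊓ H : Subgroup L)))
        (Nat.card_pos (α := H))) ?_
      rw [← mul_assoc, h2, ← h1, ← H.index_mul_card]; ring
    rw [h3]
    have e' : H.index * a = (L ⊓ cent ((v : L) : G)).index := by
      show cls (v : L) * a = _
      rw [cls_subgroup, ← hLi, ← Subgroup.inf_relIndex_right, inf_comm]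
      exact Subgroup.relIndex_mul_index inf_le_left
    rcases (hfree _ (v : L).2 (by rw [Subgroup.orderOf_coe, Subgroup.orderOf_coe]; exact hvo)).1 with e1 | e1
    · exact Or.inl (Nat.eq_of_mul_eq_mul_right ha0 (by rw [one_mul, e', e1]))
    · right; rw [← e1, ← e', Nat.mul_div_cancel _ ha0]
  have hF : Cfsg.fittingSubgroup L = ⊤ := by
    rw [← top_le_iff, ← hsupL]
    exact sup_le (Solv.normal_le_fitting hPnil) (Solv.normal_le_fitting hCnil)
  have hFn : Group.IsNilpotent (Cfsg.fittingSubgroup L) := by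
    rw [Solv.fitting_eq_iSup_pCore]; exact Solv.iSup_pCore_nilpotent
  rw [hF] at hFn
  haveI := hFn
  exact Group.nilpotent_of_mulEquiv Subgroup.topEquiv

end Cfsg.Agent.Char.ThreeIndex
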