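import Cfsg.Agent.Lib.Perm.CoprimeFour.Basic
import Cfsg.Agent.Lib.Solv.Cores
import Cfsg.Agent.Lib.Solv.KegelProduct
import Cfsg.Agent.Lib.Lie.RankThree.Basic

/-!
# Three centralizer indices: elementary tools
-/

set_option autoImplicit false
set_option linter.style.haveILetI false
set_option linter.unusedSectionVars false

namespace Cfsg.Agent.Char.ThreeIndex

open Cfsg.Agent.Perm.CoprimeSizes Cfsg.Agent.Perm.CoprimeFour

universe u

variable {G : Type u} [Group G] [Finite G]

theorem exists_prim_power {x : G} (hx : x ≠ 1) :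
    ∃ (q : ℕ) (u : G), q.Prime ∧ orderOf u = q ∧ u ≠ 1 ∧ u ∈ Subgroup.zpowers x := by
  obtain ⟨k, q, hq, hk⟩ := Lie.RankThree.exists_primary_power hx
  exact ⟨q, x ^ k, hq, hk, fun e => hq.ne_one (by rw [← hk, e, orderOf_one]),
    Subgroup.npow_mem_zpowers x k⟩

theorem Prim.of_prime {q : ℕ} {u : G} (h : orderOf u = q) : Prim q u := ⟨1, by rw [pow_one, h]⟩

/-- A nontrivial element central in a Sylow subgroup. -/
theorem exists_central {p : ℕ} [Fact p.Prime] (hp : p ∣ Nat.card G) (P : Sylow p G) :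
    ∃ z ∈ (P : Subgroup G), z ≠ 1 ∧ Prim p z ∧ (P : Subgroup G) ≤ cent z ∧ ¬ p ∣ cls z := by
  obtain ⟨z, hz, hz1, hle, hd⟩ := Lie.RankThree.exists_central_elt p hp P
  exact ⟨z, hz, hz1, prim_of_mem_sylow P hz, hle, hd⟩

theorem cls_dvd_of_mem {x u : G} (hu : u ∈ Subgroup.zpowers x) : cls u ∣ cls x :=
  cls_dvd (cent_le_of_mem_zpowers hu)

theorem index_inf_dvd {a b : G} : cls a ∣ (cent a ⊓ cent b).index ∧ cls b ∣ (cent a ⊓ cent b).index :=
  ⟨Subgroup.index_dvd_of_le inf_le_left, Subgroup.index_dvd_of_le inf_le_right⟩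

theorem eq_of_le_of_index_eq {H K : Subgroup G} (h : H ≤ K) (he : H.index = K.index) : H = K := by
  have h1 := Subgroup.relIndex_mul_index h
  rw [he] at h1
  nth_rw 2 [← one_mul K.index] at h1
  exact le_antisymm h (Subgroup.relIndex_eq_one.1
    (Nat.eq_of_mul_eq_mul_right (Nat.pos_of_ne_zero Subgroup.index_ne_zero_of_finite) h1))

/-- A `p`-element centralizing a Sylow subgroup lies in it. -/
theorem mem_sylow_of_commute {p : ℕ} [Fact p.Prime] (P : Sylow p G) {u : G} (hu : Prim p u)
    (hP : (P : Subgroup G) ≤ cent u) : u ∈ (P : Subgroup G) := by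
  have hn : Subgroup.zpowers u ≤ Subgroup.normalizer ((P : Subgroup G) : Set G) := fun w hw =>
    Subgroup.centralizer_le_normalizer _ (Subgroup.mem_centralizer_iff.2 fun a ha =>
      mem_cent.1 (cent_le_of_mem_zpowers hw (hP ha)))
  have hpg := P.isPGroup'.to_sup_of_normal_left' hu.isPGroup hn
  exact (P.is_maximal' hpg le_sup_left) ▸ Subgroup.mem_sup_right (Subgroup.mem_zpowers u)

/-- Subgroups with coprime indices in a normal subgroup: Kegel. -/
theorem solvable_of_pair (K A B : Subgroup G) (hA : Group.IsNilpotent A) (hB : Group.IsNilpotent B)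
    (h : (A.relIndex K).Coprime (B.relIndex K)) : Group.IsSolvable K := by
  have hA' : Group.IsNilpotent (A.subgroupOf K) := by
    haveI := hA
    have : Group.IsNilpotent ((A ⊓ K).subgroupOf A) := inferInstance
    let f : (A ⊓ K).subgroupOf A ≃* (A.subgroupOf K) :=
      (Subgroup.subgroupOfEquivOfLe (inf_le_left : A ⊓ K ≤ A)).trans
        (((Subgroup.subgroupOfEquivOfLe (inf_le_right : A ⊓ K ≤ K)).symm).trans
          (MulEquiv.subgroupCongr (Subgroup.inf_subgroupOf_right A K)))
    exact Group.nilpotent_of_mulEquiv f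
  have hB' : Group.IsNilpotent (B.subgroupOf K) := by
    haveI := hB
    have : Group.IsNilpotent ((B ⊓ K).subgroupOf B) := inferInstance
    let f : (B ⊓ K).subgroupOf B ≃* (B.subgroupOf K) :=
      (Subgroup.subgroupOfEquivOfLe (inf_le_left : B ⊓ K ≤ B)).trans
        (((Subgroup.subgroupOfEquivOfLe (inf_le_right : B ⊓ K ≤ K)).symm).trans
          (MulEquiv.subgroupCongr (Subgroup.inf_subgroupOf_right B K)))
    exact Group.nilpotent_of_mulEquiv f
  refine Cfsg.Agent.Solv.Fct.kegel _ K (A.subgroupOf K) (B.subgroupOf K) rfl hA' hB' fun g => ?_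
  obtain ⟨b, hb, a, ha, e⟩ := Lie.RankThree.exists_mul_of_coprime (B.subgroupOf K) (A.subgroupOf K)
    h.symm g
  exact ⟨a, ha, b, hb, e⟩

theorem solvable_of_commutator (h : Group.IsSolvable (commutator G)) : Group.IsSolvable G := by
  haveI := h
  exact Group.isSolvable_of_ker_le_range (commutator G).subtype (Abelianization.of (G := G))
    (by rw [Abelianization.ker_of, Subgroup.range_subtype])

theorem solvable_of_top (h : Group.IsSolvable (⊤ : Subgroup G)) : Group.IsSolvable G := by
  haveI := h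
  exact Group.isSolvable_of_surjective (f := (Subgroup.topEquiv (G := G)).toMonoidHom)
    Subgroup.topEquiv.surjective

theorem solvable_of_two (A B : Subgroup G) (hA : Group.IsNilpotent A) (hB : Group.IsNilpotent B)
    (h : A.index.Coprime B.index) : Group.IsSolvable G :=
  solvable_of_top (solvable_of_pair ⊤ A B hA hB (by rwa [Subgroup.relIndex_top_right, Subgroup.relIndex_top_right]))

end Cfsg.Agent.Char.ThreeIndex
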